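import Mathlib
import Cfsg.Prelude.Def_CaseTheorems

/-!
A group with a central subgroup `T` whose quotient is the automorphism group of a simple group `S`, and a
quasisimple subgroup of index two over `T`: that subgroup lies over the inner automorphisms, and every
automorphism fixing `T` pointwise is, on that subgroup, conjugation by an element.
-/

set_option autoImplicit false
set_option linter.style.haveILetI false
set_option linter.unusedSectionVars false

namespace CfsgLib.FischerTwoFour.OuterInv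

open Subgroup
open scoped commutatorElement

variable {C S : Type*} [Group C] [Group S]

/-- A normal subgroup of a quasisimple group is central or everything. -/
theorem normal_of_quasisimple {K : Type*} [Group K] (hq : Cfsg.IsQuasisimple K) (M : Subgroup K) [M.Normal] :
    M ≤ center K ∨ M = ⊤ := by
  haveI := hq.2
  set π := QuotientGroup.mk' (center K)
  rcases (Normal.map (inferInstance : M.Normal) π (QuotientGroup.mk'_surjective _)).eq_bot_or_eq_top with h | h
  · exact Or.inl fun x hx => (QuotientGroup.eq_one_iff x).1 ((Subgroup.eq_bot_iff_forall _).1 h _ ⟨x, hx, rfl⟩)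
  · refine Or.inr (top_unique ?_)
    rw [← hq.1.commutator_eq_top, commutator_def, Subgroup.commutator_le]
    have key : ∀ x : K, ∃ m ∈ M, ∃ c ∈ center K, x = m * c := fun x => by
      obtain ⟨m, hm, e⟩ : π x ∈ M.map π := h ▸ mem_top _
      exact ⟨m, hm, m⁻¹ * x, QuotientGroup.eq.1 e, by group⟩
    intro a _ b _
    obtain ⟨m, hm, c, hc, rfl⟩ := key a
    obtain ⟨n, hn, d, hd, rfl⟩ := key b
    have : ⁅m * c, n * d⁆ = ⁅m, n⁆ := by
      have e1 : (m * c) * (n * d) = m * n * (c * d) := by
        rw [mul_assoc, ← mul_assoc c n d, ← Subgroup.mem_center_iff.1 hc n]; group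
      have e2 : (n * d) * (m * c) = n * m * (c * d) := by
        rw [mul_assoc, ← mul_assoc d m c, ← Subgroup.mem_center_iff.1 hd m, mul_assoc,
          Subgroup.mem_center_iff.1 hc d]
        group
      rw [commutatorElement_def, commutatorElement_def, mul_assoc _ _ (n * d)⁻¹, ← mul_inv_rev, e1, e2]
      group
    rw [this]
    exact M.mul_mem (M.mul_mem (M.mul_mem hm hn) (M.inv_mem hm)) (M.inv_mem hn)

variable {T K : Subgroup C} [T.Normal] (hT : T ≤ center C) (hTK : T ≤ K) (hK : Cfsg.IsQuasisimple K)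
  (hidx : K.index = 2) (hS : center S = ⊥) [IsSimpleGroup S] (ε : C ⧸ T ≃* MulAut S)

section
include hK hidx hS hTK

/-- The subgroup lies over exactly the inner automorphisms. -/
theorem inner_image : K.map (ε.toMonoidHom.comp (QuotientGroup.mk' T)) = (MulAut.conj (G := S)).range := by
  set F := ε.toMonoidHom.comp (QuotientGroup.mk' T) with hF
  have hFs : Function.Surjective F := ε.surjective.comp (QuotientGroup.mk'_surjective _)
  have hKn := K.normal_of_index_eq_two hidx
  set N := (MulAut.conj (G := S)).range with hN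
  have hinj : Function.Injective (MulAut.conj (G := S)) := by
    rw [← MonoidHom.ker_eq_bot_iff, Subgroup.eq_bot_iff_forall]
    intro x hx
    have : x ∈ center S := Subgroup.mem_center_iff.2 fun y => by
      have := congrArg (fun σ : MulAut S => σ y) (MonoidHom.mem_ker.1 hx)
      simp only [MulAut.conj_apply, MulAut.one_apply] at this
      exact (mul_inv_eq_iff_eq_mul.1 this).symm
    rwa [hS, mem_bot] at this
  have hNn : ∀ n ∈ N, ∀ g : MulAut S, g * n * g⁻¹ ∈ N := by
    rintro _ ⟨x, rfl⟩ g
    refine ⟨g x, MulEquiv.ext fun y => ?_⟩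
    simp [MulAut.mul_apply, map_mul, map_inv]
  have hKFn : (K.map F).Normal := hKn.map F hFs
  have hne : ∃ a b : S, a * b ≠ b * a := by
    by_contra h
    push Not at h
    have : center S = ⊤ := top_unique fun x _ => Subgroup.mem_center_iff.2 fun y => h y x
    rw [hS] at this
    obtain ⟨x, hx⟩ := exists_ne (1 : S)
    exact hx (mem_bot.1 (this ▸ mem_top x))
  have hle : N ≤ K.map F := by
    have hM : ((K.map F).comap (MulAut.conj (G := S))).Normal := hKFn.comap _
    rcases hM.eq_bot_or_eq_top with h | h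
    · exfalso
      obtain ⟨a, b, hab⟩ := hne
      refine hab (commutatorElement_eq_one_iff_mul_comm.1 (mem_bot.1 ?_))
      rw [← h, mem_comap, map_commutatorElement]
      obtain ⟨x, hx⟩ := hFs (MulAut.conj a)
      obtain ⟨y, hy⟩ := hFs (MulAut.conj b)
      refine ⟨⁅x, y⁆, ?_, by rw [map_commutatorElement, hx, hy]⟩
      have hq : ∀ w : C, (w : C) * w ∈ K := Subgroup.mul_self_mem_of_index_two hidx
      rw [commutatorElement_def, show x * y * x⁻¹ * y⁻¹ = (x * y) * (x * y) * (y⁻¹ * (x⁻¹ * x⁻¹) * y) * (y⁻¹ * y⁻¹) by group]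
      exact K.mul_mem (K.mul_mem (hq _) (by simpa using hKn.conj_mem _ (hq x⁻¹) y⁻¹)) (hq _)
    · rintro _ ⟨x, rfl⟩
      exact mem_comap.1 (show x ∈ (K.map F).comap (MulAut.conj (G := S)) by rw [h]; exact mem_top _)
  refine le_antisymm ?_ hle
  let f : K →* MulAut S := F.comp K.subtype
  haveI hfn : (N.comap f).Normal := ⟨fun n hn g => by
    rw [mem_comap, map_mul, map_mul, map_inv]; exact hNn _ (mem_comap.1 hn) _⟩
  rcases normal_of_quasisimple hK (N.comap f) with h | h
  · exfalso
    obtain ⟨a, b, hab⟩ := hne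
    obtain ⟨x, hx, ex⟩ := hle (MonoidHom.mem_range.2 ⟨a, rfl⟩)
    obtain ⟨y, hy, ey⟩ := hle (MonoidHom.mem_range.2 ⟨b, rfl⟩)
    have hxc : (⟨x, hx⟩ : K) ∈ center K := h (mem_comap.2 ⟨a, ex.symm⟩)
    have := congrArg f (Subgroup.mem_center_iff.1 hxc ⟨y, hy⟩)
    rw [map_mul, map_mul] at this
    refine hab (hinj ?_).symm
    rw [map_mul, map_mul]
    exact (congrArg₂ (· * ·) ey ex).symm.trans (this.trans (congrArg₂ (· * ·) ex ey))
  · rintro _ ⟨x, hx, rfl⟩
    exact mem_comap.1 (show (⟨x, hx⟩ : K) ∈ N.comap f by rw [h]; exact mem_top _)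

/-- The quotient of the subgroup is the simple group. -/
theorem exists_quot : ∃ f : K →* S, Function.Surjective f ∧ (∀ m : K, f m = 1 ↔ (m : C) ∈ T) ∧
    ∀ m : K, ε (QuotientGroup.mk (m : C)) = MulAut.conj (f m) := by
  have himg := inner_image hTK hK hidx hS ε
  have hinj : Function.Injective (MulAut.conj (G := S)) := by
    rw [← MonoidHom.ker_eq_bot_iff, Subgroup.eq_bot_iff_forall]
    intro x hx
    have : x ∈ center S := Subgroup.mem_center_iff.2 fun y => by
      have := congrArg (fun σ : MulAut S => σ y) (MonoidHom.mem_ker.1 hx)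
      simp only [MulAut.conj_apply, MulAut.one_apply] at this
      exact (mul_inv_eq_iff_eq_mul.1 this).symm
    rwa [hS, mem_bot] at this
  let j := MonoidHom.ofInjective hinj
  let g : K →* (MulAut.conj (G := S)).range := ((ε.toMonoidHom.comp (QuotientGroup.mk' T)).comp K.subtype).codRestrict _
    fun m => himg ▸ ⟨m, m.2, rfl⟩
  let f : K →* S := j.symm.toMonoidHom.comp g
  have hf : ∀ m : K, ε (QuotientGroup.mk (m : C)) = MulAut.conj (f m) := fun m => by
    show _ = (j (j.symm (g m)) : MulAut S)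
    rw [j.apply_symm_apply]; rfl
  refine ⟨f, fun s => ?_, fun m => ?_, hf⟩
  · obtain ⟨x, hx, e⟩ := himg.symm.le (MonoidHom.mem_range.2 ⟨s, rfl⟩)
    exact ⟨⟨x, hx⟩, hinj ((hf _).symm.trans e)⟩
  · rw [← QuotientGroup.eq_one_iff, ← ε.map_eq_one_iff, hf, map_eq_one_iff _ hinj]

end

include hT hTK hK hidx hS ε

/-- An automorphism fixing `T` is conjugation by an element on the subgroup. -/
theorem exists_conj (β : C ≃* C) (hβ : ∀ x ∈ T, β x = x) : ∃ k : C, ∀ m ∈ K, k⁻¹ * β m * k = m := by
  obtain ⟨f, hfs, hfk, hfε⟩ := exists_quot hTK hK hidx hS ε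
  have hKc : commutator C = K := by
    refine le_antisymm ?_ ?_
    · rw [_root_.commutator_def, Subgroup.commutator_le]
      intro x _ y _
      have hq : ∀ w : C, (w : C) * w ∈ K := Subgroup.mul_self_mem_of_index_two hidx
      rw [commutatorElement_def, show x * y * x⁻¹ * y⁻¹ = (x * y) * (x * y) * (y⁻¹ * (x⁻¹ * x⁻¹) * y) * (y⁻¹ * y⁻¹) by group]
      exact K.mul_mem (K.mul_mem (hq _) (by
        simpa using (K.normal_of_index_eq_two hidx).conj_mem _ (hq x⁻¹) y⁻¹)) (hq _)
    · intro x hx
      have h : (⟨x, hx⟩ : K) ∈ commutator K := hK.1.commutator_eq_top ▸ mem_top _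
      have := mem_map_of_mem K.subtype h
      rw [_root_.commutator_def, map_commutator, ← MonoidHom.range_eq_map, range_subtype] at this
      exact commutator_mono le_top le_top this
  have hβK : ∀ m : C, β m ∈ K ↔ m ∈ K := by
    have : K.map β.toMonoidHom = K := by
      rw [← hKc, _root_.commutator_def, map_commutator, map_top_of_surjective _ β.surjective]
    intro m
    conv_lhs => rw [← this]
    exact mem_map_iff_mem β.injective
  let βK : K →* K := (β.toMonoidHom.comp K.subtype).codRestrict K fun m => (hβK _).2 m.2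
  have hβKs : Function.Surjective βK := fun m => ⟨⟨β.symm m, (hβK _).1 (by rw [β.apply_symm_apply]; exact m.2)⟩,
    Subtype.ext (β.apply_symm_apply _)⟩
  have hker : f.ker = (f.comp βK).ker := by
    ext m
    rw [MonoidHom.mem_ker, MonoidHom.mem_ker, MonoidHom.comp_apply, hfk, hfk]
    show (m : C) ∈ T ↔ β m ∈ T
    constructor
    · intro h; rwa [hβ _ h]
    · intro h
      have := β.injective (hβ _ h)
      rwa [← this]
  let σ : S ≃* S := (QuotientGroup.quotientKerEquivOfSurjective f hfs).symm.trans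
    ((QuotientGroup.quotientMulEquivOfEq hker).trans
      (QuotientGroup.quotientKerEquivOfSurjective (f.comp βK) (hfs.comp hβKs)))
  have hσ : ∀ m, σ (f m) = f (βK m) := fun m => by
    have h1 : (QuotientGroup.quotientKerEquivOfSurjective f hfs).symm (f m) = (m : K ⧸ f.ker) :=
      (QuotientGroup.quotientKerEquivOfSurjective f hfs).symm_apply_eq.2 rfl
    simp only [σ, MulEquiv.trans_apply]
    rw [h1]; rfl
  obtain ⟨q, hq⟩ := ε.surjective (σ : MulAut S)
  obtain ⟨k, rfl⟩ := QuotientGroup.mk_surjective q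
  refine ⟨k, ?_⟩
  have hKn := K.normal_of_index_eq_two hidx
  have hmem : ∀ m : K, k⁻¹ * β m * k * (m : C)⁻¹ ∈ T := fun m => by
    rw [← QuotientGroup.eq_one_iff, ← ε.map_eq_one_iff, QuotientGroup.mk_mul, QuotientGroup.mk_mul,
      QuotientGroup.mk_mul, QuotientGroup.mk_inv, QuotientGroup.mk_inv, map_mul, map_mul, map_mul, map_inv,
      map_inv, hq, show β (m : C) = ((βK m : K) : C) from rfl, hfε, hfε, ← hσ]
    exact MulEquiv.ext fun y => by simp [MulAut.mul_apply, map_mul, map_inv]; group
  let τ : K →* T := {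
    toFun := fun m => ⟨_, hmem m⟩
    map_one' := Subtype.ext (by simp)
    map_mul' := fun a b => Subtype.ext (by
      show k⁻¹ * β (a * b : C) * k * ((a : C) * b)⁻¹ = _
      calc _ = k⁻¹ * β a * k * ((k⁻¹ * β b * k * (b : C)⁻¹) * (a : C)⁻¹) := by rw [map_mul]; group
        _ = k⁻¹ * β a * k * ((a : C)⁻¹ * (k⁻¹ * β b * k * (b : C)⁻¹)) := by
          rw [Subgroup.mem_center_iff.1 (hT (hmem b)) (a : C)⁻¹]
        _ = _ := by simp [mul_assoc]) }
  intro m hm
  have h : (⟨m, hm⟩ : K) ∈ τ.ker := by
    have hle : commutator K ≤ τ.ker := by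
      rw [_root_.commutator_def, Subgroup.commutator_le]
      intro a _ b _
      rw [MonoidHom.mem_ker, map_commutatorElement, commutatorElement_eq_one_iff_mul_comm]
      exact Subtype.ext (Subgroup.mem_center_iff.1 (hT (τ b).2) _)
    exact hle (hK.1.commutator_eq_top ▸ mem_top _)
  have := congrArg Subtype.val (MonoidHom.mem_ker.1 h)
  exact mul_inv_eq_one.1 this

/-- The centraliser of the subgroup lies in `T`. -/
theorem centralizer_le : ∀ c : C, (∀ m ∈ K, c * m = m * c) → c ∈ T := by
  intro c hc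
  obtain ⟨f, hfs, hfk, hfε⟩ := exists_quot hTK hK hidx hS ε
  rw [← QuotientGroup.eq_one_iff, ← ε.map_eq_one_iff]
  set σ : MulAut S := ε (QuotientGroup.mk c) with hσ
  refine MulEquiv.ext fun x => ?_
  obtain ⟨m, rfl⟩ := hfs x
  have h : σ * MulAut.conj (f m) = MulAut.conj (f m) * σ := by
    rw [← hfε, hσ, ← map_mul, ← map_mul, ← QuotientGroup.mk_mul, ← QuotientGroup.mk_mul, hc m m.2]
  have h2 : (f m)⁻¹ * σ (f m) ∈ center S := Subgroup.mem_center_iff.2 fun y => by
    obtain ⟨y, rfl⟩ := σ.surjective y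
    have := congrArg (fun u : MulAut S => u y) h
    simp only [MulAut.mul_apply, MulAut.conj_apply, map_mul, map_inv] at this
    calc σ y * ((f m)⁻¹ * σ (f m)) = (f m)⁻¹ * (f m * σ y * (f m)⁻¹) * σ (f m) := by group
      _ = (f m)⁻¹ * (σ (f m) * σ y * (σ (f m))⁻¹) * σ (f m) := by rw [this]
      _ = (f m)⁻¹ * σ (f m) * σ y := by group
  rw [hS, mem_bot, inv_mul_eq_one] at h2
  exact h2.symm

end CfsgLib.FischerTwoFour.OuterInv
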