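import Cfsg.Agent.Lib.ThreeTrans.Inst.FiTwentyTwoModel
import Cfsg.Agent.Lib.ThreeTrans.Inst.TypeTransport
import Cfsg.Agent.Lib.Presented.Fi22Unitary.Cover
import Cfsg.Agent.Lib.Presented.DoubleCoverEquiv

/-!
The clauses on the Fischer group on 22 letters used for a double cover of it: it is of type M(22) on a class
of 3-transpositions, and the centraliser of one of them is quasisimple over the unitary group, the
transposition commuting with another one.
-/

set_option autoImplicit false
set_option linter.style.haveILetI false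

namespace CfsgLib.FischerTwoFour.OuterInv

open Subgroup CfsgLib.ThreeTrans.Inst
open CfsgLib.Presented
open scoped commutatorElement

/-- A non-split double cover of a simple group is quasisimple. -/
theorem quasisimple_of_doubleCover {H K : Type*} [Group H] [Group K] (hK : IsSimpleGroup K)
    (hperf : commutator K = ⊤) (h : Cfsg.IsNonsplitDoubleCover H K) : Cfsg.IsQuasisimple H := by
  obtain ⟨hcard, ⟨q⟩, hns⟩ := h
  haveI := hK
  refine ⟨⟨?_⟩, q.isSimpleGroup⟩
  let f : H →* K := q.toMonoidHom.comp (QuotientGroup.mk' (center H))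
  have hf : Function.Surjective f := q.surjective.comp (QuotientGroup.mk'_surjective _)
  have hker : f.ker = center H := by
    ext x
    rw [MonoidHom.mem_ker, show f x = q (QuotientGroup.mk x) from rfl, MulEquiv.map_eq_one_iff,
      QuotientGroup.eq_one_iff]
  have hsup : commutator H ⊔ center H = ⊤ := by
    rw [← hker, ← comap_map_eq, show (commutator H).map f = ⊤ from ?_, comap_top]
    rw [commutator_def, map_commutator, map_top_of_surjective f hf, ← commutator_def, hperf]
  by_contra hne
  refine hns (commutator H) (isComplement'_of_disjoint_and_mul_eq_univ ?_ ?_)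
  · rw [disjoint_iff]
    have : Finite (center H) := Nat.finite_of_card_ne_zero (by rw [hcard]; norm_num)
    have h2 := card_dvd_of_le (inf_le_left : center H ⊓ commutator H ≤ center H)
    rw [hcard] at h2
    rcases (Nat.dvd_prime Nat.prime_two).1 h2 with h1 | h1
    · exact card_eq_one.1 h1
    · exfalso
      have he : center H ⊓ commutator H = center H :=
        eq_of_le_of_card_ge inf_le_left (by rw [h1, hcard])
      exact hne (by rw [← hsup, sup_eq_left.2 (inf_eq_left.1 he)])
  · rw [← Subgroup.mul_normal, ← coe_top, ← hsup, sup_comm]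

/-- The clause on an involution of a group isomorphic to the Fischer group on 22 letters. -/
theorem fi22_clauses {W : Type*} [Group W] (e : Cfsg.Spor.Fi22 ≃* W) :
    (∃ E : Set W, Cfsg.IsThreeTranspositionClass E ∧ Cfsg.IsOfTypeM22 W E) ∧
    ∃ d' : W, orderOf d' = 2 ∧ Cfsg.IsQuasisimple ↥(centralizer ({d'} : Set W)) ∧
      (∃ (K : Type) (_ : Field K) (_ : Fintype K), Fintype.card K = 4 ∧
        ∃ _ : ((zpowers d').subgroupOf (centralizer ({d'} : Set W))).Normal,
          Nonempty (↥(centralizer ({d'} : Set W)) ⧸ (zpowers d').subgroupOf (centralizer ({d'} : Set W)) ≃*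
            Cfsg.PSU 6 K 2)) ∧
      ∃ g, g * d' * g⁻¹ ∈ centralizer ({d'} : Set W) ∧ g * d' * g⁻¹ ≠ d' := by
  classical
  obtain ⟨⟨hord, hprod⟩, ⟨a₀, ha₀, hD⟩, hgen⟩ := FiTwentyTwo.isClass
  constructor
  · refine ⟨e '' FiTwentyTwo.D, ⟨⟨?_, ?_⟩, ⟨e a₀, ⟨a₀, ha₀, rfl⟩, ?_⟩, ?_⟩,
      typeM22_map e rfl FiTwentyTwo.typeM22⟩
    · rintro _ ⟨x, hx, rfl⟩
      rw [MulEquiv.orderOf_eq]
      exact hord x hx
    · rintro _ ⟨x, hx, rfl⟩ _ ⟨y, hy, rfl⟩
      rw [← map_mul, ← map_pow, ← map_pow]
      exact (hprod x hx y hy).imp (fun e' => by rw [e', map_one]) (fun e' => by rw [e', map_one])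
    · ext y
      rw [hD]
      constructor
      · rintro ⟨x, hx, rfl⟩
        exact e.toMonoidHom.map_isConj hx
      · intro hy
        obtain ⟨c, rfl⟩ := isConj_iff.1 hy
        obtain ⟨c, rfl⟩ := e.surjective c
        exact ⟨_, isConj_iff.2 ⟨c, rfl⟩, by simp⟩
    · rw [show (e : Cfsg.Spor.Fi22 → W) = (e.toMonoidHom : Cfsg.Spor.Fi22 → W) from rfl, ← MonoidHom.map_closure,
        hgen]
      exact map_top_of_surjective _ e.surjective
  obtain ⟨F, iF, iT, hF⟩ : ∃ (F : Type) (_ : Field F) (_ : Fintype F), Fintype.card F = 2 ^ 2 := by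
    obtain ⟨-, d, -, c, -, -, ⟨F, iF, iT, hF, -⟩, -⟩ := FiTwentyTwo.typeM22
    exact ⟨F, iF, iT, hF⟩
  set a := FiTwentyTwo.a with ha
  have hCa : centralizer ({a} : Set Cfsg.Spor.Fi22) = Fi22UCosets.H := le_antisymm
    (fun g hg => FiTwentyTwo.mem_H_of_fix (FiTwentyTwo.fix g (mem_centralizer_singleton_iff.1 hg)))
    fun g hg => mem_centralizer_singleton_iff.2 (FiTwentyTwo.commute_a hg).eq
  have hmap : (centralizer ({a} : Set Cfsg.Spor.Fi22)).map e.toMonoidHom = centralizer ({e a} : Set W) := by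
    ext x
    obtain ⟨y, rfl⟩ := e.surjective x
    rw [mem_map_equiv, e.symm_apply_apply, mem_centralizer_singleton_iff, mem_centralizer_singleton_iff,
      ← map_mul, ← map_mul, e.injective.eq_iff]
  let ι : Fi22UCosets.H ≃* centralizer ({e a} : Set W) := (MulEquiv.subgroupCongr hCa.symm).trans
    ((equivMapOfInjective _ e.toMonoidHom e.injective).trans (MulEquiv.subgroupCongr hmap))
  have hdc := CfsgLib.Presented.isNonsplitDoubleCover_of_equiv ι (CfsgLib.Presented.Fi22Unitary.doubleCover hF)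
  have hsimple : IsSimpleGroup (Cfsg.PSU 6 F 2) :=
    CfsgLib.ClassicalGroups.psu_isSimpleGroup (n := 6) hF (by norm_num) (by norm_num)
  have hperf : commutator (Cfsg.PSU 6 F 2) = ⊤ := by
    haveI := hsimple
    refine (Normal.eq_bot_or_eq_top inferInstance).resolve_left fun h => ?_
    obtain ⟨p, q, hpq⟩ := CfsgLib.ThreeTrans.psu_six_noncomm hF
    refine hpq ?_
    have hm : ⁅p, q⁆ ∈ commutator (Cfsg.PSU 6 F 2) := commutator_mem_commutator (mem_top p) (mem_top q)
    rw [h, mem_bot, commutatorElement_eq_one_iff_mul_comm] at hm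
    exact hm
  have hda : orderOf (e a) = 2 := by
    rw [MulEquiv.orderOf_eq]
    exact hord a FiTwentyTwo.P.a_mem
  have hsub : (zpowers (e a)).subgroupOf (centralizer ({e a} : Set W)) = center (centralizer ({e a} : Set W)) := by
    have hle : (zpowers (e a)).subgroupOf (centralizer ({e a} : Set W)) ≤
        center (centralizer ({e a} : Set W)) := fun g hg => mem_center_iff.2 fun h => Subtype.ext (by
      obtain ⟨k, hk⟩ := mem_zpowers_iff.1 (mem_subgroupOf.1 hg)
      show (h : W) * g = g * h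
      rw [← hk]
      exact ((show Commute (h : W) (e a) from mem_centralizer_singleton_iff.1 h.2).zpow_right k).eq)
    have : Finite (center (centralizer ({e a} : Set W))) :=
      Nat.finite_of_card_ne_zero (by rw [hdc.1]; norm_num)
    refine eq_of_le_of_card_ge hle ?_
    rw [Nat.card_congr (subgroupOfEquivOfLe (zpowers_le.2 (mem_centralizer_singleton_iff.2 rfl))).toEquiv,
      Nat.card_zpowers, hda, hdc.1]
  haveI hnorm : ((zpowers (e a)).subgroupOf (centralizer ({e a} : Set W))).Normal :=
    ⟨fun n hn g => by rw [hsub] at hn ⊢; exact (inferInstance : (center _).Normal).conj_mem n hn g⟩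
  refine ⟨e a, hda, quasisimple_of_doubleCover hsimple hperf hdc, ⟨F, iF, iT, hF.trans (by norm_num), hnorm, ?_⟩, ?_⟩
  · obtain ⟨q⟩ := hdc.2.1
    exact ⟨(QuotientGroup.quotientMulEquivOfEq hsub).trans q⟩
  · obtain ⟨-, d, hd, -, -, -, ⟨F', iF', iT', hF', ⟨i⟩⟩, -⟩ := FiTwentyTwo.typeM22
    obtain ⟨y, hy, hne, hc⟩ : {y | y ∈ FiTwentyTwo.D ∧ y ≠ d ∧ Commute d y}.Nonempty := by
      by_contra hn
      rw [Set.not_nonempty_iff_eq_empty] at hn
      have : Subsingleton ↥(closure {y : Cfsg.Spor.Fi22 | y ∈ FiTwentyTwo.D ∧ y ≠ d ∧ Commute d y}) := by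
        rw [hn, Subgroup.closure_empty]; infer_instance
      obtain ⟨p, q, hpq⟩ := CfsgLib.ThreeTrans.psu_six_noncomm (F := F') (by rw [hF']; norm_num)
      exact hpq (i.symm.injective (Subsingleton.elim _ _))
    obtain ⟨k, hk⟩ := isConj_iff.1 (hd : IsConj a d)
    obtain ⟨l, hl⟩ := isConj_iff.1 (hy : IsConj a y)
    rw [show FiTwentyTwo.P.a = a from rfl] at hk hl
    set g := k⁻¹ * l with hg
    have hgy : g * a * g⁻¹ = k⁻¹ * y * k := by rw [hg, ← hl]; group
    have hkd : k⁻¹ * d * k = a := by rw [← hk]; group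
    refine ⟨e g, ?_, ?_⟩
    · rw [mem_centralizer_singleton_iff, ← map_inv, ← map_mul, ← map_mul, ← map_mul, ← map_mul, hgy]
      refine congrArg e ?_
      calc k⁻¹ * y * k * a = k⁻¹ * (y * d) * k := by rw [← hkd]; group
        _ = k⁻¹ * (d * y) * k := by rw [hc.eq]
        _ = a * (k⁻¹ * y * k) := by rw [← hkd]; group
    · rw [← map_inv, ← map_mul, ← map_mul, e.injective.ne_iff, hgy, ← hkd]
      simpa using hne

end CfsgLib.FischerTwoFour.OuterInv
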