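import Cfsg.Agent.Lib.FischerTwoFour.OuterInv.Tower
import Cfsg.Agent.Lib.FischerTwoFour.OuterInv.Aut
import Cfsg.Agent.Lib.FischerTwoFour.OuterInv.FiFacts
import Cfsg.Agent.Lib.FischerTwoFour.Cocode.DataExists
import Cfsg.Agent.Lib.ThreeTrans.FiCent23.Final
import Cfsg.Agent.Lib.Components.FStar
import Cfsg.Agent.Lib.Components.Basic
import Cfsg.Prelude.Def_Spor_Fi22

/-!
A group with a subgroup of index two of large Fischer type: granted that the centraliser in that subgroup of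
an involution of `Q` not conjugate to `z` is an extension of a double cover of the Fischer group on 22 letters
by its outer automorphism, there is an outer involution whose centraliser is of type M(23).
-/

set_option autoImplicit false
set_option linter.unusedSectionVars false
set_option linter.style.haveILetI false
set_option maxHeartbeats 1000000

namespace CfsgLib.FischerTwoFour.OuterInv

open Subgroup
open scoped commutatorElement Pointwise

universe u

/-- The centraliser of a non-central involution of `Q` in a group of large Fischer type. -/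
def FischerTwoFourCentralizer.{v} : Prop :=
  ∀ {G : Type v} [Group G] [Finite G] (z : G) (Q : Subgroup (Subgroup.centralizer ({z} : Set G))) [Q.Normal]
    (_ : Cfsg.IsOfLargeFischerTypeAt z Q) (t : G)
    (_ : ∃ htc : t ∈ Subgroup.centralizer ({z} : Set G), (⟨t, htc⟩ : Subgroup.centralizer ({z} : Set G)) ∈ Q)
    (_ : orderOf t = 2) (_ : ¬ IsConj z t) (K : Subgroup ↥(Subgroup.centralizer ({t} : Set G)))
    (_ : K = Cfsg.generalizedFittingSubgroup ↥(Subgroup.centralizer ({t} : Set G)))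
    [((Subgroup.zpowers t).subgroupOf (Subgroup.centralizer ({t} : Set G))).Normal],
    Cfsg.IsQuasisimple ↥K ∧ K.index = 2 ∧
      (∃ htc : t ∈ Subgroup.centralizer ({t} : Set G), (⟨t, htc⟩ : ↥(Subgroup.centralizer ({t} : Set G))) ∈ K) ∧
      Nonempty (↥(Subgroup.centralizer ({t} : Set G)) ⧸
        (Subgroup.zpowers t).subgroupOf (Subgroup.centralizer ({t} : Set G)) ≃* MulAut Cfsg.Spor.Fi22)

variable {X : Type u} [Group X] [Finite X]

/-- An element outside `G₀` fixing `z` and an involution of `Q` not conjugate to it. -/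
theorem exists_outer_fixing (G₀ : Subgroup X) (hidx : G₀.index = 2) [G₀.Normal] (z : ↥G₀)
    (Q : Subgroup (Subgroup.centralizer ({z} : Set ↥G₀))) [Q.Normal]
    (hF : Cfsg.IsOfLargeFischerTypeAt z Q)
    (hcentral : ∃ P : Sylow 2 ↥G₀, z ∈ (P : Subgroup ↥G₀) ∧ ∀ x ∈ (P : Subgroup ↥G₀), Commute x z)
    (hFX : (Cfsg.generalizedFittingSubgroup ↥(Subgroup.centralizer ({(z : X)} : Set X))).map (Subgroup.subtype _) =
      ((Q.map (Subgroup.subtype _)).map G₀.subtype)) :
    ∃ (t : ↥G₀) (e : X), e ∉ G₀ ∧ MulAut.conjNormal e z = z ∧ MulAut.conjNormal e t = t ∧ orderOf t = 2 ∧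
      t ≠ z ∧ ¬ IsConj z t ∧ t ∈ Q.map (Subgroup.centralizer ({z} : Set ↥G₀)).subtype := by
  classical
  haveI := Fact.mk Nat.prime_two
  have S := shape_of hF
  have hz : orderOf z = 2 := hF.1.1
  have hfit := hF.1.2.1
  obtain ⟨P, hzP, hPz⟩ := hcentral
  obtain ⟨x, hx⟩ : ∃ x : X, x ∉ G₀ := by
    by_contra h
    push Not at h
    rw [(eq_top_iff' G₀).2 h, index_top] at hidx
    omega
  obtain ⟨g, hg⟩ := MulAction.exists_smul_eq ↥G₀ ((MulAut.conjNormal x : MulAut ↥G₀) • P) P
  set σ : MulAut ↥G₀ := MulAut.conj g * MulAut.conjNormal x with hσ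
  have hσP : (P : Subgroup ↥G₀).map σ.toMonoidHom = P := by
    conv_rhs => rw [← hg]
    rw [Sylow.coe_subgroup_smul, Sylow.pointwise_smul_def, Subgroup.pointwise_smul_def,
      Subgroup.pointwise_smul_def]
    exact ((P : Subgroup ↥G₀).map_map (MulAut.conj g : MulAut ↥G₀).toMonoidHom
      (MulAut.conjNormal x : MulAut ↥G₀).toMonoidHom).symm
  set y : X := (g : X) * x with hy
  have hyG : y ∉ G₀ := fun h => hx (by simpa [hy] using G₀.mul_mem (G₀.inv_mem g.2) h)
  have hσy : ∀ p : ↥G₀, σ p = MulAut.conjNormal y p := fun p => Subtype.ext (by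
    rw [hσ, MulAut.mul_apply, MulAut.conjNormal_apply, hy]
    show (g : X) * (MulAut.conjNormal x p : ↥G₀) * (g : X)⁻¹ = _
    rw [MulAut.conjNormal_apply]
    group)
  -- `Q` lies in `P`
  set Qg : Subgroup ↥G₀ := Q.map (Subgroup.centralizer ({z} : Set ↥G₀)).subtype with hQg
  have hQP : Qg ≤ P := by
    have h2 : IsPGroup 2 Qg := IsPGroup.of_card (n := 13) (by
      rw [hQg, card_map_of_injective (subtype_injective _), S.card_Q])
    have hn : (P : Subgroup ↥G₀) ≤ normalizer (Qg : Set ↥G₀) := fun p hp => by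
      refine mem_normalizer_iff.2 fun q => ⟨fun hq => ?_, fun hq => ?_⟩
      · obtain ⟨c, hc, rfl⟩ := hq
        exact ⟨⟨p, mem_centralizer_singleton_iff.2 (hPz p hp).eq⟩ * c * ⟨p, mem_centralizer_singleton_iff.2 (hPz p hp).eq⟩⁻¹,
          (inferInstance : Q.Normal).conj_mem c hc _, rfl⟩
      · obtain ⟨c, hc, e⟩ := hq
        refine ⟨(⟨p, mem_centralizer_singleton_iff.2 (hPz p hp).eq⟩ : centralizer ({z} : Set ↥G₀))⁻¹ * c *
          ⟨p, mem_centralizer_singleton_iff.2 (hPz p hp).eq⟩,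
          by simpa using (inferInstance : Q.Normal).conj_mem c hc _⁻¹, ?_⟩
        show p⁻¹ * (c : ↥G₀) * p = q
        rw [show (c : ↥G₀) = p * q * p⁻¹ from e]; group
    have h3 := h2.to_sup_of_normal_left' P.isPGroup' hn
    calc Qg ≤ Qg ⊔ P := le_sup_left
      _ = P := P.is_maximal' h3 le_sup_right
  have hyz : MulAut.conjNormal y z = z := by
    rw [← hσy]
    have hcomm : ∀ p ∈ (P : Subgroup ↥G₀), Commute p (σ z) := fun p hp => by
      obtain ⟨p', hp', rfl⟩ : p ∈ (P : Subgroup ↥G₀).map σ.toMonoidHom := hσP.symm ▸ hp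
      exact (hPz p' hp').map σ
    have hC : σ z ∈ centralizer ({z} : Set ↥G₀) := mem_centralizer_singleton_iff.2 (hcomm z hzP).symm.eq
    have hcQ : (⟨σ z, hC⟩ : centralizer ({z} : Set ↥G₀)) ∈ Q := by
      have : (⟨σ z, hC⟩ : centralizer ({z} : Set ↥G₀)) ∈
          centralizer (Cfsg.generalizedFittingSubgroup ↥(centralizer ({z} : Set ↥G₀)) : Set _) := by
        rw [mem_centralizer_iff]
        intro c hc
        rw [hfit] at hc
        exact Subtype.ext (hcomm _ (hQP ⟨c, hc, rfl⟩)).eq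
      have := CfsgLib.Components.centralizer_generalizedFitting_le this
      rwa [hfit] at this
    have hcZ : (⟨⟨σ z, hC⟩, hcQ⟩ : Q) ∈ center Q := mem_center_iff.2 fun c =>
      Subtype.ext (Subtype.ext (hcomm _ (hQP ⟨(c : centralizer ({z} : Set ↥G₀)), c.2, rfl⟩)).eq)
    refine (center_cases S hz hcZ).resolve_left fun e => ?_
    have e' : σ z = 1 := e
    rw [MulEquiv.map_eq_one_iff] at e'
    rw [e', orderOf_one] at hz
    omega
  -- the involution
  obtain ⟨s, -, hs2, -, hsn, -, hcs, -⟩ := S.exists_both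
  set t : ↥G₀ := toG s with ht
  have ht2 : t * t = 1 := by rw [ht, ← map_mul, hs2, map_one]
  have ht1 : t ≠ 1 := fun e => hsn ((inZ_iff_center S hz).1 (Or.inl e))
  have htz : t ≠ z := fun e => hsn ((inZ_iff_center S hz).1 (Or.inr e))
  have hnc : ¬ IsConj z t := fun h => by
    have := (conj_iff_card S hF hs2 hsn).1 h
    rw [← S.stabImage_eq hsn, hcs] at this
    omega
  have hXmem : ∀ q ∈ Qg, ∀ e : X, e ∈ Subgroup.centralizer ({(z : X)} : Set X) → MulAut.conjNormal e q ∈ Qg := by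
    intro q hq e he
    haveI := CfsgLib.Components.generalizedFitting_normal (G := ↥(Subgroup.centralizer ({(z : X)} : Set X)))
    obtain ⟨c, hc, hcq⟩ : (q : X) ∈ (Cfsg.generalizedFittingSubgroup
        ↥(Subgroup.centralizer ({(z : X)} : Set X))).map (Subgroup.subtype _) := by
      rw [hFX]; exact ⟨q, hq, rfl⟩
    have hm : e * (q : X) * e⁻¹ ∈ (Cfsg.generalizedFittingSubgroup
        ↥(Subgroup.centralizer ({(z : X)} : Set X))).map (Subgroup.subtype _) :=
      ⟨⟨e, he⟩ * c * ⟨e, he⟩⁻¹, (inferInstance : Subgroup.Normal _).conj_mem c hc _, by rw [← hcq]; rfl⟩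
    rw [hFX] at hm
    obtain ⟨q', hq', e'⟩ := hm
    rwa [show MulAut.conjNormal e q = q' from Subtype.ext ((MulAut.conjNormal_apply e q).trans e'.symm)]
  have hyC : y ∈ Subgroup.centralizer ({(z : X)} : Set X) := by
    have := congrArg Subtype.val hyz
    rw [MulAut.conjNormal_apply] at this
    exact mem_centralizer_singleton_iff.2 (mul_inv_eq_iff_eq_mul.1 this)
  obtain ⟨a, ha⟩ : ∃ a : Q, toG a = MulAut.conjNormal y t :=
    mem_map_iff.1 (hXmem t (mem_map_iff.2 ⟨s, rfl⟩) y hyC)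
  have ha2 : a * a = 1 := toG_inj (by rw [map_mul, ha, ← map_mul, ht2, map_one, map_one])
  have han : a ∉ center Q := fun h => hsn <| (inZ_iff_center S hz).1 <| by
    rcases (inZ_iff_center S hz).2 h with e | e
    · exact Or.inl (by rwa [ha, MulEquiv.map_eq_one_iff] at e)
    · refine Or.inr ((MulAut.conjNormal y : MulAut ↥G₀).injective ?_)
      rw [hyz, ← ha, e]
  have hca : Nat.card (stabImage a) = 51840 := by
    refine (S.stab_cases ha2 han).1.resolve_right fun h => hnc ?_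
    rw [S.stabImage_eq han] at h
    have hc := (conj_iff_card S hF ha2 han).2 h
    rw [ha] at hc
    have := (MulAut.conjNormal y : MulAut ↥G₀).symm.toMonoidHom.map_isConj hc
    have e1 : (MulAut.conjNormal y : MulAut ↥G₀).symm z = z :=
      (MulEquiv.symm_apply_eq _).2 hyz.symm
    simpa [e1] using this
  obtain ⟨c, hc⟩ := S.conj_of_card ha2 han hs2 hsn (hca.trans hcs.symm)
  refine ⟨t, ((c : ↥G₀) : X) * y, fun h => hyG ?_, ?_, ?_, orderOf_eq_prime (by rw [pow_two, ht2]) ht1, htz,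
    hnc, mem_map_iff.2 ⟨s, rfl⟩⟩
  · simpa using G₀.mul_mem (G₀.inv_mem (c : ↥G₀).2) h
  · rw [map_mul, MulAut.mul_apply, hyz]
    refine Subtype.ext ?_
    rw [MulAut.conjNormal_apply]
    exact congrArg Subtype.val (mul_inv_eq_iff_eq_mul.2 (mem_centralizer_singleton_iff.1 c.2))
  · rw [map_mul, MulAut.mul_apply, ← ha]
    refine Subtype.ext ?_
    rw [MulAut.conjNormal_apply]
    exact congrArg (fun w : centralizer ({z} : Set ↥G₀) => ((w : ↥G₀) : X)) hc

/-- The outer involution and its centraliser. -/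
theorem outer_involution (h5450 : FischerTwoFourCentralizer.{u}) (G₀ : Subgroup X) (hidx : G₀.index = 2) (z : ↥G₀)
    (Q : Subgroup (Subgroup.centralizer ({z} : Set ↥G₀))) [Q.Normal]
    (hF : Cfsg.IsOfLargeFischerTypeAt z Q)
    (hcentral : ∃ P : Sylow 2 ↥G₀, z ∈ (P : Subgroup ↥G₀) ∧ ∀ x ∈ (P : Subgroup ↥G₀), Commute x z)
    (hFX : (Cfsg.generalizedFittingSubgroup ↥(Subgroup.centralizer ({(z : X)} : Set X))).map (Subgroup.subtype _) =
      ((Q.map (Subgroup.subtype _)).map G₀.subtype)) :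
    ∃ d : X, orderOf d = 2 ∧ d ∉ G₀ ∧ Commute d (z : X) ∧
      ∃ t : ↥(G₀ ⊓ Subgroup.centralizer ({d} : Set X)), orderOf t = 2 ∧
        Cfsg.IsQuasisimple ↥(Subgroup.centralizer ({t} : Set ↥(G₀ ⊓ Subgroup.centralizer ({d} : Set X)))) ∧
        (∃ (_ : ((Subgroup.zpowers t).subgroupOf (Subgroup.centralizer ({t} : Set ↥(G₀ ⊓ Subgroup.centralizer ({d} : Set X))))).Normal),
          (∃ E : Set (↥(Subgroup.centralizer ({t} : Set ↥(G₀ ⊓ Subgroup.centralizer ({d} : Set X)))) ⧸
              (Subgroup.zpowers t).subgroupOf (Subgroup.centralizer ({t} : Set ↥(G₀ ⊓ Subgroup.centralizer ({d} : Set X))))),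
            Cfsg.IsThreeTranspositionClass E ∧ Cfsg.IsOfTypeM22 _ E) ∧
          ∃ d' : ↥(Subgroup.centralizer ({t} : Set ↥(G₀ ⊓ Subgroup.centralizer ({d} : Set X)))) ⧸
              (Subgroup.zpowers t).subgroupOf (Subgroup.centralizer ({t} : Set ↥(G₀ ⊓ Subgroup.centralizer ({d} : Set X)))),
            orderOf d' = 2 ∧ Cfsg.IsQuasisimple ↥(Subgroup.centralizer ({d'} : Set _)) ∧
            (∃ (K : Type) (_ : Field K) (_ : Fintype K), Fintype.card K = 4 ∧
              ∃ _ : ((Subgroup.zpowers d').subgroupOf (Subgroup.centralizer ({d'} : Set _))).Normal,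
                Nonempty (↥(Subgroup.centralizer ({d'} : Set _)) ⧸
                  (Subgroup.zpowers d').subgroupOf (Subgroup.centralizer ({d'} : Set _)) ≃* Cfsg.PSU 6 K 2)) ∧
            ∃ g, g * d' * g⁻¹ ∈ Subgroup.centralizer ({d'} : Set _) ∧ g * d' * g⁻¹ ≠ d') ∧
        (∃ g : ↥(G₀ ⊓ Subgroup.centralizer ({d} : Set X)),
          g * t * g⁻¹ ∈ Subgroup.centralizer ({t} : Set ↥(G₀ ⊓ Subgroup.centralizer ({d} : Set X))) ∧
          g * t * g⁻¹ ≠ t) ∧
        Cfsg.IsThreeTranspositionClass (conjugatesOf t) ∧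
        Cfsg.IsOfTypeM23 ↥(G₀ ⊓ Subgroup.centralizer ({d} : Set X)) (conjugatesOf t) := by
  classical
  haveI := G₀.normal_of_index_eq_two hidx
  obtain ⟨t, e0, he0, he0z, he0t, hto, htz, hnc, htQ⟩ := exists_outer_fixing G₀ hidx z Q hF hcentral hFX
  obtain ⟨Y, hYQ, hYα⟩ := exists_sys_preserved hF
  have htt : t * t = 1 := by rw [← pow_two, ← hto]; exact pow_orderOf_eq_one t
  have ht1 : t ≠ 1 := fun e => by rw [e, orderOf_one] at hto; omega
  set Ct := Subgroup.centralizer ({t} : Set ↥G₀) with hCt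
  set T := (zpowers t).subgroupOf Ct with hT
  have hTc : T ≤ center Ct := fun g hg => mem_center_iff.2 fun h => Subtype.ext (by
    obtain ⟨k, hk⟩ := mem_zpowers_iff.1 (mem_subgroupOf.1 hg)
    show (h : ↥G₀) * g = g * h
    rw [← hk]
    exact ((show Commute (h : ↥G₀) t from mem_centralizer_singleton_iff.1 h.2).zpow_right k).eq)
  haveI hTn : T.Normal := ⟨fun n hn g => by
    rw [mem_center_iff.1 (hTc hn) g, mul_inv_cancel_right]; exact hn⟩
  obtain ⟨hq, hKidx, ⟨htc, htK⟩, ⟨ε⟩⟩ := h5450 (G := ↥G₀) z Q hF t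
    (by obtain ⟨c, hc, e⟩ := htQ; exact ⟨e ▸ c.2, by subst e; exact hc⟩) hto hnc _ rfl
  set K := Cfsg.generalizedFittingSubgroup ↥Ct with hK
  have hTK : T ≤ K := fun g hg => by
    obtain ⟨k, hk⟩ := mem_zpowers_iff.1 (mem_subgroupOf.1 hg)
    rw [show g = (⟨t, htc⟩ : Ct) ^ k from Subtype.ext (by rw [SubgroupClass.coe_zpow]; exact hk.symm)]
    exact K.zpow_mem htK k
  have : IsSimpleGroup Cfsg.Spor.Fi22 := CfsgLib.Presented.Fi22Simple.simple
  have hS : center Cfsg.Spor.Fi22 = ⊥ := CfsgLib.ThreeTrans.Inst.FiTwentyTwo.typeM22.1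
  -- the element centralising `K`
  set α0 : MulAut ↥G₀ := MulAut.conjNormal e0 with hα0
  have hmapC : Ct.map α0.toMonoidHom = Ct := by
    ext g
    obtain ⟨g, rfl⟩ := α0.surjective g
    rw [mem_map_equiv, α0.symm_apply_apply, mem_centralizer_singleton_iff, mem_centralizer_singleton_iff]
    constructor
    · intro h; conv_lhs => rw [← he0t]
      conv_rhs => rw [← he0t]
      rw [← map_mul, ← map_mul, h]
    · intro h
      refine α0.injective ?_
      rw [map_mul, map_mul, he0t, h]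
  let β : Ct ≃* Ct := (equivMapOfInjective Ct α0.toMonoidHom α0.injective).trans (MulEquiv.subgroupCongr hmapC)
  have hβ : ∀ c : Ct, ((β c : Ct) : ↥G₀) = α0 c := fun c => rfl
  obtain ⟨k, hk⟩ := exists_conj hTc hTK hq hKidx hS ε β fun g hg => Subtype.ext (by
    obtain ⟨n, hn⟩ := mem_zpowers_iff.1 (mem_subgroupOf.1 hg)
    rw [hβ, show (g : ↥G₀) = t ^ n from hn.symm, map_zpow, he0t])
  set e : X := ((k : ↥G₀) : X)⁻¹ * e0 with he
  have heG : e ∉ G₀ := fun h => he0 (by
    have := G₀.mul_mem (k : ↥G₀).2 h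
    rwa [he, mul_inv_cancel_left] at this)
  set α : MulAut ↥G₀ := MulAut.conjNormal e with hα
  have hαK : ∀ m ∈ K, α (m : Ct) = (m : ↥G₀) := fun m hm => Subtype.ext (by
    have := congrArg (fun w : Ct => ((w : ↥G₀) : X)) (hk m hm)
    simp only [coe_mul, coe_inv, hβ] at this
    rw [hα0, MulAut.conjNormal_apply] at this
    rw [hα, MulAut.conjNormal_apply, he]
    conv_rhs => rw [← this]
    group)
  -- `z` lies in `K`
  set Qg : Subgroup ↥G₀ := Y.Qg with hQg
  have htQg : t ∈ Qg := by rw [hYQ]; exact htQ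
  have hQC : Qg ≤ Subgroup.centralizer ({z} : Set ↥G₀) := Y.le_cen
  have hzCt : z ∈ Ct := mem_centralizer_singleton_iff.2 (mem_centralizer_singleton_iff.1 (hQC htQg)).symm
  set A := Qg ⊓ Ct with hA
  have hAcard : Nat.card A = 4096 := Y.card_cent t htQg ht1 htz
  have hzK : (⟨z, hzCt⟩ : Ct) ∈ K := by
    obtain ⟨a, ha, b, hb, hab⟩ : ∃ a ∈ A, ∃ b ∈ A, a * b ≠ b * a := by
      by_contra h
      push Not at h
      have := Y.abel A inf_le_left h
      omega
    have hcz : a * b * a⁻¹ * b⁻¹ = z := (Y.comm a ha.1 b hb.1).resolve_left fun h => hab (by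
      have h1 := mul_inv_eq_one.1 h
      exact mul_inv_eq_iff_eq_mul.1 h1)
    have hsq : ∀ w : Ct, w * w ∈ K := Subgroup.mul_self_mem_of_index_two hKidx
    haveI := K.normal_of_index_eq_two hKidx
    let a' : Ct := ⟨a, ha.2⟩
    let b' : Ct := ⟨b, hb.2⟩
    rw [show (⟨z, hzCt⟩ : Ct) = (a' * b') * (a' * b') * (b'⁻¹ * (a'⁻¹ * a'⁻¹) * b') * (b'⁻¹ * b'⁻¹) from
      Subtype.ext (by simp only [a', b', coe_mul, coe_inv]; rw [← hcz]; group)]
    exact K.mul_mem (K.mul_mem (hsq _) (by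
      simpa using (inferInstance : K.Normal).conj_mem _ (hsq a'⁻¹) b'⁻¹)) (hsq _)
  have hαz : α z = z := hαK _ hzK
  have hαt : α t = t := hαK _ htK
  have heC : e ∈ Subgroup.centralizer ({(z : X)} : Set X) := by
    have := congrArg Subtype.val hαz
    rw [hα, MulAut.conjNormal_apply] at this
    exact mem_centralizer_singleton_iff.2 (mul_inv_eq_iff_eq_mul.1 this)
  have hαQ : ∀ q ∈ Qg, α q ∈ Qg := by
    intro q hq
    haveI := CfsgLib.Components.generalizedFitting_normal (G := ↥(Subgroup.centralizer ({(z : X)} : Set X)))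
    rw [hYQ] at hq ⊢
    obtain ⟨c, hc, hcq⟩ : (q : X) ∈ (Cfsg.generalizedFittingSubgroup
        ↥(Subgroup.centralizer ({(z : X)} : Set X))).map (Subgroup.subtype _) := by
      rw [hFX]; exact ⟨q, hq, rfl⟩
    have hm : e * (q : X) * e⁻¹ ∈ (Cfsg.generalizedFittingSubgroup
        ↥(Subgroup.centralizer ({(z : X)} : Set X))).map (Subgroup.subtype _) :=
      ⟨⟨e, heC⟩ * c * ⟨e, heC⟩⁻¹, (inferInstance : Subgroup.Normal _).conj_mem c hc _, by rw [← hcq]; rfl⟩
    rw [hFX] at hm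
    obtain ⟨q', hq', e'⟩ := hm
    rwa [show α q = q' from Subtype.ext ((MulAut.conjNormal_apply e q).trans e'.symm)]
  have houter : ¬ ∃ b ∈ Qg, ∀ q ∈ Qg, α q = b * q * b⁻¹ := by
    rintro ⟨b, hb, hbq⟩
    have hbC : (b : X) ∈ Subgroup.centralizer ({(z : X)} : Set X) :=
      mem_centralizer_singleton_iff.2 (congrArg Subtype.val (mem_centralizer_singleton_iff.1 (hQC hb)))
    let w : ↥(Subgroup.centralizer ({(z : X)} : Set X)) := ⟨(b : X)⁻¹ * e, mul_mem (inv_mem hbC) heC⟩
    have hw : w ∈ centralizer (Cfsg.generalizedFittingSubgroup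
        ↥(Subgroup.centralizer ({(z : X)} : Set X)) : Set _) := by
      rw [mem_centralizer_iff]
      intro c hc
      obtain ⟨q, hq, hqc⟩ : (c : X) ∈ (Q.map (Subgroup.subtype _)).map G₀.subtype := by
        rw [← hFX]; exact ⟨c, hc, rfl⟩
      have := congrArg Subtype.val (hbq q (by rw [hYQ]; exact hq))
      rw [hα, MulAut.conjNormal_apply, coe_mul, coe_mul, coe_inv] at this
      refine Subtype.ext ?_
      show (c : X) * ((b : X)⁻¹ * e) = (b : X)⁻¹ * e * c
      rw [← hqc]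
      show (q : X) * ((b : X)⁻¹ * e) = (b : X)⁻¹ * e * q
      calc (q : X) * ((b : X)⁻¹ * e) = (b : X)⁻¹ * ((b : X) * q * (b : X)⁻¹) * e := by group
        _ = (b : X)⁻¹ * (e * q * e⁻¹) * e := by rw [this]
        _ = (b : X)⁻¹ * e * q := by group
    have hm := mem_map_of_mem (Subgroup.subtype _) (CfsgLib.Components.centralizer_generalizedFitting_le hw)
    rw [hFX] at hm
    obtain ⟨q', -, e'⟩ := hm
    refine heG ?_
    rw [show e = (b : X) * ((b : X)⁻¹ * e) by group]
    exact G₀.mul_mem b.2 ((show (q' : X) = (b : X)⁻¹ * e from e') ▸ q'.2)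
  -- the twist
  haveI hKn : K.Normal := K.normal_of_index_eq_two hKidx
  set P : Subgroup ↥G₀ := A ⊓ K.map Ct.subtype with hP
  have hPcard : 2048 ≤ Nat.card P := by
    have hdvd : K.relIndex (A.subgroupOf Ct) ∣ 2 := hKidx ▸ relIndex_dvd_index_of_normal K _
    have hle := Nat.le_of_dvd two_pos hdvd
    have hmul := (K.subgroupOf (A.subgroupOf Ct)).card_mul_index
    rw [show (K.subgroupOf (A.subgroupOf Ct)).index = K.relIndex (A.subgroupOf Ct) from rfl,
      Nat.card_congr (subgroupOfEquivOfLe (inf_le_right : A ≤ Ct)).toEquiv, hAcard] at hmul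
    have hPK : Nat.card (K.subgroupOf (A.subgroupOf Ct)) ≤ Nat.card P := by
      refine Nat.card_le_card_of_injective
        (fun x => (⟨((x : A.subgroupOf Ct) : Ct), (mem_subgroupOf.1 (x : A.subgroupOf Ct).2),
          ⟨((x : A.subgroupOf Ct) : Ct), mem_subgroupOf.1 x.2, rfl⟩⟩ : P)) ?_
      intro x y h
      exact Subtype.ext (Subtype.ext (Subtype.ext (congrArg Subtype.val h :)))
    nlinarith [hmul, hle, hPK]
  obtain ⟨qξ, hqξ, hαξ⟩ := hYα α hαz hαQ
  let Tw : Twist Y t :=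
    { α := α
      αz := hαz
      αQ := hαQ
      outer := houter
      αξ := ⟨qξ, hqξ, hαξ⟩
      P := P
      P_le := fun p hp => hp.1.1
      zP := ⟨⟨Y.zQ, hzCt⟩, ⟨_, hzK, rfl⟩⟩
      tP := ⟨⟨htQg, htc⟩, ⟨_, htK, rfl⟩⟩
      P_cen := fun p hp => mem_centralizer_singleton_iff.1 hp.1.2
      card_P := hPcard
      fix_P := fun p hp => by obtain ⟨m, hm, rfl⟩ := hp.2; exact hαK m hm
      tt := htt
      t1 := ht1
      tz := htz }
  -- `e` is an involution
  have het : e * (t : X) = (t : X) * e := by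
    have := congrArg Subtype.val hαt
    rw [hα, MulAut.conjNormal_apply] at this
    exact mul_inv_eq_iff_eq_mul.1 this
  have hee : e * e ∈ G₀ := Subgroup.mul_self_mem_of_index_two hidx e
  have heeC : (⟨e * e, hee⟩ : ↥G₀) ∈ Ct := mem_centralizer_singleton_iff.2 (Subtype.ext (by
    show e * e * (t : X) = (t : X) * (e * e)
    rw [mul_assoc, het, ← mul_assoc, het, mul_assoc]))
  have hee2 : (⟨⟨e * e, hee⟩, heeC⟩ : Ct) ∈ T :=
    centralizer_le hTc hTK hq hKidx hS ε _ fun m hm => Subtype.ext (Subtype.ext (by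
      show e * e * ((m : ↥G₀) : X) = ((m : ↥G₀) : X) * (e * e)
      have := congrArg Subtype.val (hαK m hm)
      rw [hα, MulAut.conjNormal_apply] at this
      have hc := mul_inv_eq_iff_eq_mul.1 this
      rw [mul_assoc, hc, ← mul_assoc, hc, mul_assoc]))
  have hed : e * e = 1 := by
    obtain ⟨n, hn⟩ := mem_zpowers_iff.1 (mem_subgroupOf.1 hee2)
    have hn' : ((t ^ n : ↥G₀) : X) = e * e := congrArg Subtype.val hn
    rcases Int.even_or_odd' n with ⟨j, rfl | rfl⟩
    · rw [← hn', zpow_mul, zpow_two, htt, one_zpow, coe_one]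
    · exfalso
      rw [zpow_add, zpow_mul, zpow_two, htt, one_zpow, one_mul, zpow_one] at hn'
      refine Tw.sq_ne fun q _ => Subtype.ext ?_
      show (α (α q) : X) = _
      rw [hα, MulAut.conjNormal_apply, MulAut.conjNormal_apply, coe_mul, coe_mul, coe_inv, hn']
      group
  have he1 : e ≠ 1 := fun h => heG (h ▸ G₀.one_mem)
  refine ⟨e, orderOf_eq_prime (by rw [pow_two, hed]) he1, heG, mem_centralizer_singleton_iff.1 heC, ?_⟩
  set Y' := G₀ ⊓ Subgroup.centralizer ({e} : Set X) with hY'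
  have htY : (t : X) ∈ Y' := ⟨t.2, mem_centralizer_singleton_iff.2 het.symm⟩
  refine ⟨⟨(t : X), htY⟩, ?_⟩
  set t' : Y' := ⟨(t : X), htY⟩ with ht'
  have ht'o : orderOf t' = 2 := by
    rw [Subgroup.orderOf_mk, Subgroup.orderOf_coe, hto]
  -- the centraliser of `t` is `K`
  have fixed : ∀ g : ↥G₀, α g = g ↔ Commute (g : X) e := fun g => by
    constructor
    · intro h
      have := congrArg Subtype.val h
      rw [hα, MulAut.conjNormal_apply] at this
      exact (mul_inv_eq_iff_eq_mul.1 this).symm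
    · intro h
      refine Subtype.ext ?_
      rw [hα, MulAut.conjNormal_apply, h.symm.eq, mul_inv_cancel_right]
  have hCK : ∀ c : Ct, α (c : ↥G₀) = c → c ∈ K := by
    intro c hc
    by_contra hcK
    refine Tw.not_fix_cent fun q hq hqt => ?_
    show Eqz z q (α q)
    have : α q = q := by
      let q' : Ct := ⟨q, mem_centralizer_singleton_iff.2 hqt⟩
      by_cases hqK : q' ∈ K
      · exact hαK q' hqK
      · have h1 : c⁻¹ * q' ∈ K := (mul_mem_iff_of_index_two hKidx).2 (by
          simp only [inv_mem_iff, hcK, hqK])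
        have h2 := hαK _ h1
        rw [coe_mul, coe_inv, map_mul, map_inv, hc] at h2
        exact mul_left_cancel h2
    rw [this]
    exact Y.eqz_refl q
  set Cy := Subgroup.centralizer ({t'} : Set Y') with hCy
  have hmemC : ∀ w : Cy, (⟨((w : Y') : X), (w : Y').2.1⟩ : ↥G₀) ∈ Ct := fun w => by
    have hw : (w : Y') * t' = t' * w := mem_centralizer_singleton_iff.1 w.2
    exact mem_centralizer_singleton_iff.2 (Subtype.ext (congrArg Subtype.val hw :))
  have hmemK : ∀ w : Cy, (⟨_, hmemC w⟩ : Ct) ∈ K := fun w => hCK _ ((fixed _).2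
    (mem_centralizer_singleton_iff.1 (w : Y').2.2))
  have hback : ∀ m : K, ∃ hm : (((m : Ct) : ↥G₀) : X) ∈ Y', (⟨_, hm⟩ : Y') ∈ Cy := fun m =>
    ⟨⟨((m : Ct) : ↥G₀).2, mem_centralizer_singleton_iff.2 ((fixed _).1 (hαK _ m.2)).eq⟩,
      mem_centralizer_singleton_iff.2 (by
        have hm : ((m : Ct) : ↥G₀) * t = t * ((m : Ct) : ↥G₀) := mem_centralizer_singleton_iff.1 (m : Ct).2
        exact Subtype.ext (congrArg Subtype.val hm :))⟩
  let Φ : Cy ≃* K :=
    { toFun := fun w => ⟨⟨_, hmemC w⟩, hmemK w⟩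
      invFun := fun m => ⟨⟨_, (hback m).choose⟩, (hback m).choose_spec⟩
      left_inv := fun w => rfl
      right_inv := fun m => rfl
      map_mul' := fun a b => rfl }
  obtain ⟨f, hfs, hfk, -⟩ := exists_quot hTK hq hKidx hS ε
  set N := (zpowers t').subgroupOf Cy with hN
  let g : Cy →* Cfsg.Spor.Fi22 := f.comp Φ.toMonoidHom
  have hgN : g.ker = N := by
    ext w
    rw [MonoidHom.mem_ker, MonoidHom.comp_apply, hfk, hN, mem_subgroupOf, mem_subgroupOf]
    constructor
    · intro h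
      obtain ⟨n, hn⟩ := mem_zpowers_iff.1 h
      refine mem_zpowers_iff.2 ⟨n, Subtype.ext ?_⟩
      rw [SubgroupClass.coe_zpow]
      exact (SubgroupClass.coe_zpow t n).symm.trans (congrArg Subtype.val hn)
    · intro h
      obtain ⟨n, hn⟩ := mem_zpowers_iff.1 h
      refine mem_zpowers_iff.2 ⟨n, Subtype.ext ?_⟩
      rw [SubgroupClass.coe_zpow]
      exact (SubgroupClass.coe_zpow t' n).symm.trans (congrArg Subtype.val hn)
  haveI hNn : N.Normal := hgN ▸ g.normal_ker
  have hqC : Cfsg.IsQuasisimple Cy := CfsgLib.Components.isQuasisimple_of_mulEquiv hq Φ.symm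
  let eW : Cy ⧸ N ≃* Cfsg.Spor.Fi22 := (QuotientGroup.quotientMulEquivOfEq hgN.symm).trans
    (QuotientGroup.quotientKerEquivOfSurjective g (hfs.comp Φ.surjective))
  obtain ⟨hE, hinv⟩ := fi22_clauses eW.symm
  obtain ⟨x, hxα, -, hxP, hxne, -⟩ := Tw.exists_three
  have hnwc : ∃ g : Y', g * t' * g⁻¹ ∈ Cy ∧ g * t' * g⁻¹ ≠ t' := by
    refine ⟨⟨(x : X), x.2, mem_centralizer_singleton_iff.2 ((fixed x).1 hxα).eq⟩, ?_, fun h => hxne ?_⟩
    · exact mem_centralizer_singleton_iff.2 (Subtype.ext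
        (congrArg Subtype.val (Tw.P_cen _ hxP) :))
    · exact Subtype.ext (congrArg Subtype.val h :)
  obtain ⟨E, hEc, hE22⟩ := hE
  obtain ⟨x₁, hHy⟩ := (CfsgLib.ThreeTrans.FiCent23.cov_of t' ht'o hqC hEc hE22 hnwc).exists_hy
  exact ⟨ht'o, hqC, ⟨hNn, ⟨E, hEc, hE22⟩, hinv⟩, hnwc, hHy.class_Dc, hHy.typeM23⟩

end CfsgLib.FischerTwoFour.OuterInv
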