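import Cfsg.Agent.Lib.FischerTwoFour.Sys

/-!
An outer automorphism fixing `z`, acting trivially on a subgroup `P` of order at least `2^11` of the
centraliser in `Q` of an involution `t`: it does not fix that centraliser, its square is not conjugation
by `t`, and, when it has order two on `Q`, some element of order three of the coset of `ξ` is fixed by it
and moves `t` into `P`.
-/

set_option autoImplicit false
set_option linter.unusedSectionVars false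
set_option linter.style.haveILetI false

namespace CfsgLib.FischerTwoFour

open Subgroup

variable {G : Type*} [Group G] [Finite G] {z : G}

/-- Congruence modulo `⟨z⟩`. -/
def Eqz (z a b : G) : Prop := InZ z (a⁻¹ * b)

namespace Sys

variable (Y : Sys z)
include Y

theorem eqz_refl (a : G) : Eqz z a a := Or.inl (inv_mul_cancel a)

theorem eqz_symm {a b : G} (h : Eqz z a b) : Eqz z b a := by
  have := Y.inZ_inv h
  rwa [mul_inv_rev, inv_inv] at this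

theorem eqz_trans {a b c : G} (h : Eqz z a b) (h' : Eqz z b c) : Eqz z a c := by
  have := Y.inZ_mul h h'
  rwa [show a⁻¹ * b * (b⁻¹ * c) = a⁻¹ * c by group] at this

theorem exists_of_eqz {a b : G} (h : Eqz z a b) : ∃ e, InZ z e ∧ b = a * e := ⟨_, h, by group⟩

theorem eqz_of_mul {a b e : G} (he : InZ z e) (h : b = a * e) : Eqz z a b := by
  rw [Eqz, h, inv_mul_cancel_left]; exact he

theorem eqz_mul {a b c d : G} (hc : c ∈ centralizer ({z} : Set G)) (h : Eqz z a b) (h' : Eqz z c d) :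
    Eqz z (a * c) (b * d) := by
  obtain ⟨e, he, rfl⟩ := Y.exists_of_eqz h
  obtain ⟨f, hf, rfl⟩ := Y.exists_of_eqz h'
  refine Y.eqz_of_mul (Y.inZ_mul he hf) ?_
  rw [show a * e * (c * f) = a * (e * c) * f by group, ← Y.zcomm hc he]
  group

theorem eqz_sh {a b : G} (h : Eqz z a b) : Eqz z (Y.sh a) (Y.sh b) := by
  obtain ⟨e, he, rfl⟩ := Y.exists_of_eqz h
  exact Y.eqz_of_mul he (by rw [Y.sh_mul, Y.sh_inZ he])

theorem eqz_swap {a b : G} (ha : a ∈ Y.Qg) (hb : b ∈ Y.Qg) : Eqz z (a * b) (b * a) := by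
  have h := Y.comm b⁻¹ (inv_mem hb) a⁻¹ (inv_mem ha)
  rw [inv_inv, inv_inv] at h
  show InZ z ((a * b)⁻¹ * (b * a))
  rwa [show (a * b)⁻¹ * (b * a) = b⁻¹ * a⁻¹ * b * a by group]

theorem eqz_inv {a : G} (ha : a ∈ Y.Qg) : Eqz z a⁻¹ a := by
  show InZ z (a⁻¹⁻¹ * a)
  rw [inv_inv]; exact Y.sq a ha

theorem eqz_mem {a b : G} {H : Subgroup G} (hz : z ∈ H) (h : Eqz z a b) (ha : a ∈ H) : b ∈ H := by
  obtain ⟨e, he, rfl⟩ := Y.exists_of_eqz h
  refine mul_mem ha ?_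
  rcases he with rfl | rfl
  exacts [one_mem _, hz]

theorem eqz_commute {a b c : G} (hc : c ∈ centralizer ({z} : Set G)) (h : Eqz z a b) (hac : a * c = c * a) :
    b * c = c * b := by
  obtain ⟨e, he, rfl⟩ := Y.exists_of_eqz h
  exact ((show Commute a c from hac).mul_left (show Commute e c from (Y.zcomm hc he).symm)).eq

theorem sh_sq {a : G} (ha : a * a = 1) : Y.sh a * Y.sh a = 1 := by
  rw [← Y.sh_mul, ha, sh, mul_one, mul_inv_cancel]

/-- The orbit product, modulo `⟨z⟩`. -/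
theorem eqz_shsh {a : G} (ha : a ∈ Y.Qg) : Eqz z (a * Y.sh a) (Y.sh (Y.sh a)) := by
  have h := Y.Φ_inZ ha
  have h' : Eqz z (a * Y.sh a) (Y.sh (Y.sh a))⁻¹ := by
    refine Y.eqz_symm (show InZ z _ from ?_)
    rw [inv_inv, show Y.sh (Y.sh a) * (a * Y.sh a) =
      (a * Y.sh a)⁻¹ * Y.Φ a * (a * Y.sh a) by rw [Φ]; group]
    rw [mul_assoc, ← Y.zcomm (Y.le_cen (mul_mem ha (Y.sh_mem ha))) h, inv_mul_cancel_left]
    exact h
  exact Y.eqz_trans h' (Y.eqz_inv (Y.sh_mem (Y.sh_mem ha)))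

theorem eqz_div {a b : G} (ha : a ∈ centralizer ({z} : Set G)) (h : Eqz z a b) : InZ z (b * a⁻¹) := by
  obtain ⟨e, he, rfl⟩ := Y.exists_of_eqz h
  rw [Y.zcomm ha he, mul_inv_cancel_right]
  exact he

theorem sh_sh_eq (x : G) : Y.sh (Y.sh x) = Y.ξ⁻¹ * x * Y.ξ := by
  have h1 : Y.ξ * Y.ξ = Y.ξ⁻¹ := eq_inv_of_mul_eq_one_left (by rw [← pow_two, ← pow_succ]; exact Y.xi3)
  calc Y.sh (Y.sh x) = Y.ξ * Y.ξ * x * (Y.ξ * Y.ξ)⁻¹ := by simp only [Sys.sh]; group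
    _ = _ := by rw [h1, inv_inv]

end Sys

/-- An outer automorphism acting on `Q` and trivially on a large subgroup of `C_Q(t)`. -/
structure Twist (Y : Sys z) (t : G) where
  α : G ≃* G
  αz : α z = z
  αQ : ∀ q ∈ Y.Qg, α q ∈ Y.Qg
  outer : ¬ ∃ b ∈ Y.Qg, ∀ q ∈ Y.Qg, α q = b * q * b⁻¹
  αξ : ∃ q ∈ Y.Qg, α Y.ξ = Y.ξ * q ∨ α Y.ξ = Y.ξ⁻¹ * q
  P : Subgroup G
  P_le : P ≤ Y.Qg
  zP : z ∈ P
  tP : t ∈ P
  P_cen : ∀ p ∈ P, p * t = t * p
  card_P : 2048 ≤ Nat.card P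
  fix_P : ∀ p ∈ P, α p = p
  tt : t * t = 1
  t1 : t ≠ 1
  tz : t ≠ z

namespace Twist

variable {Y : Sys z} {t : G} (T : Twist Y t)
include T

theorem tQ : t ∈ Y.Qg := T.P_le T.tP

theorem t_not_inZ : ¬ InZ z t := fun h => h.elim T.t1 T.tz

theorem α_inZ {e : G} (he : InZ z e) : T.α e = e := by
  rcases he with rfl | rfl
  · exact map_one _
  · exact T.αz

theorem α_eqz {a b : G} (h : Eqz z a b) : Eqz z (T.α a) (T.α b) := by
  obtain ⟨e, he, rfl⟩ := Y.exists_of_eqz h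
  exact Y.eqz_of_mul he (by rw [map_mul, T.α_inZ he])

/-- The automorphism commutes with `ξ` modulo `Q`. -/
theorem exists_q : ∃ q ∈ Y.Qg, T.α Y.ξ = Y.ξ * q := by
  obtain ⟨q, hq, h | h⟩ := T.αξ
  · exact ⟨q, hq, h⟩
  exfalso
  -- the intersection of `P` and its translate would be central
  have hsmall : ∀ p ∈ T.P, Y.sh p ∈ T.P → InZ z p := by
    intro p hp hsp
    have hpQ := T.P_le hp
    have e1 : T.α (Y.sh p) = Y.ξ⁻¹ * (q * p * q⁻¹) * Y.ξ := by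
      rw [Sys.sh, map_mul, map_mul, map_inv, h, T.fix_P p hp]
      group
    rw [T.fix_P _ hsp] at e1
    have e2 : Eqz z (Y.sh (Y.sh p)) (Y.ξ⁻¹ * (q * p * q⁻¹) * Y.ξ) := by
      have e : Eqz z p (q * p * q⁻¹) := by
        have h1 : Eqz z (p * q * q⁻¹) (q * p * q⁻¹) :=
          Y.eqz_mul (Y.le_cen (inv_mem hq)) (Y.eqz_swap hpQ hq) (Y.eqz_refl _)
        rwa [mul_inv_cancel_right] at h1
      have e' := Y.eqz_sh (Y.eqz_sh e)
      rwa [Y.sh_sh_eq (q * p * q⁻¹)] at e'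
    rw [← e1] at e2
    have e3 : Eqz z (Y.sh p) p := by
      have h4 := Y.eqz_sh e2
      rw [Y.sh_three] at h4
      exact Y.eqz_symm (Y.eqz_trans h4 e2)
    exact Y.xi_fix p hpQ (Y.eqz_div (Y.le_cen hpQ) (Y.eqz_symm e3))
  set P' := T.P.map (MulAut.conj Y.ξ).toMonoidHom with hP'
  have hP'Q : P' ≤ Y.Qg := by
    rintro _ ⟨p, hp, rfl⟩
    exact Y.sh_mem (T.P_le hp)
  have hzP' : z ∈ P' := ⟨z, T.zP, Y.sh_inZ (Or.inr rfl)⟩
  have hc := card_sup_mul_inf T.P P' fun a ha b hb => by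
    have := Y.eqz_mul (Y.le_cen (inv_mem (T.P_le ha))) (Y.eqz_swap (hP'Q hb) (T.P_le ha)) (Y.eqz_refl a⁻¹)
    rw [mul_inv_cancel_right] at this
    exact Y.eqz_mem hzP' this hb
  have h1 : Nat.card ↥(T.P ⊔ P') ≤ 2 ^ 13 := by
    rw [← Y.card_Qg]; exact card_le_of_le (sup_le T.P_le hP'Q)
  have h2 : Nat.card P' = Nat.card T.P := card_map_of_injective (MulAut.conj Y.ξ).injective
  have h3 : Nat.card ↥(T.P ⊓ P') ≤ 2 := by
    have hsub : ((T.P ⊓ P' : Subgroup G) : Set G) ⊆ {1, z} := by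
      rintro x ⟨hx, p, hp, rfl⟩
      have h' := hsmall p hp hx
      show Y.sh p = 1 ∨ Y.sh p = z
      rw [Y.sh_inZ h']; exact h'
    rw [show Nat.card ↥(T.P ⊓ P') = ((T.P ⊓ P' : Subgroup G) : Set G).ncard from Nat.card_coe_set_eq _]
    exact (Set.ncard_le_ncard hsub (Set.toFinite _)).trans ((Set.ncard_insert_le _ _).trans (by simp))
  rw [h2] at hc
  have := Nat.mul_le_mul h1 h3
  have := Nat.mul_le_mul T.card_P T.card_P
  omega

/-- The part of `α ξ` in `Q`. -/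
noncomputable def q1 : G := T.exists_q.choose

theorem q1_mem : T.q1 ∈ Y.Qg := T.exists_q.choose_spec.1

theorem α_xi : T.α Y.ξ = Y.ξ * T.q1 := T.exists_q.choose_spec.2

theorem α_sh (q : G) : T.α (Y.sh q) = Y.sh (T.q1 * T.α q * T.q1⁻¹) := by
  simp only [Sys.sh, map_mul, map_inv, T.α_xi]; group

theorem conj_q1 {x : G} (hx : x ∈ Y.Qg) : Eqz z x (T.q1 * x * T.q1⁻¹) := by
  have h1 : Eqz z (x * T.q1 * T.q1⁻¹) (T.q1 * x * T.q1⁻¹) :=
    Y.eqz_mul (Y.le_cen (inv_mem T.q1_mem)) (Y.eqz_swap hx T.q1_mem) (Y.eqz_refl _)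
  rwa [mul_inv_cancel_right] at h1

/-- The elements of `Q` fixed modulo `⟨z⟩`. -/
def Fix : Subgroup G where
  carrier := {q | q ∈ Y.Qg ∧ Eqz z q (T.α q)}
  one_mem' := ⟨one_mem _, by rw [map_one]; exact Y.eqz_refl _⟩
  mul_mem' {a b} ha hb := ⟨mul_mem ha.1 hb.1, by
    rw [map_mul]; exact Y.eqz_mul (Y.le_cen hb.1) ha.2 hb.2⟩
  inv_mem' {a} ha := ⟨inv_mem ha.1, by
    rw [map_inv]
    exact Y.eqz_trans (Y.eqz_inv ha.1) (Y.eqz_trans ha.2 (Y.eqz_symm (Y.eqz_inv (T.αQ a ha.1))))⟩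

theorem mem_Fix {q : G} : q ∈ T.Fix ↔ q ∈ Y.Qg ∧ Eqz z q (T.α q) := Iff.rfl

theorem P_le_Fix : T.P ≤ T.Fix := fun p hp => ⟨T.P_le hp, by rw [T.fix_P p hp]; exact Y.eqz_refl _⟩

theorem sh_Fix {q : G} (hq : q ∈ T.Fix) : Y.sh q ∈ T.Fix := by
  refine ⟨Y.sh_mem hq.1, ?_⟩
  rw [T.α_sh]
  exact Y.eqz_sh (Y.eqz_trans hq.2 (T.conj_q1 (T.αQ q hq.1)))

/-- What the automorphism adds to an element of `Q` centralises the elements it fixes modulo `⟨z⟩`. -/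
theorem comm_Fix {q c : G} (hq : q ∈ Y.Qg) (hc : c ∈ T.Fix) :
    q⁻¹ * T.α q * c = c * (q⁻¹ * T.α q) := by
  obtain ⟨e, he, hce⟩ := Y.exists_of_eqz hc.2
  obtain ⟨f, hf, hqc⟩ := Y.comm' hq hc.1
  have h1 : T.α q * (c * e) = f * (c * e * T.α q) := by
    rw [← hce, ← map_mul, hqc, map_mul, T.α_inZ hf, map_mul]
  have hcq : T.α q * c = f * (c * T.α q) := by
    have ce := Y.zcomm (Y.le_cen (T.αQ q hq)) he
    calc T.α q * c = T.α q * (c * e) * e⁻¹ := by group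
      _ = f * (c * e * T.α q) * e⁻¹ := by rw [h1]
      _ = f * (c * (T.α q * e)) * e⁻¹ := by rw [ce]; group
      _ = f * (c * T.α q) := by group
  have hq' : c * q = f⁻¹ * (q * c) := by rw [hqc]; group
  calc q⁻¹ * T.α q * c = q⁻¹ * (f * (c * T.α q)) := by rw [mul_assoc, hcq]
    _ = q⁻¹ * f * (c * q) * (q⁻¹ * T.α q) := by group
    _ = q⁻¹ * f * (f⁻¹ * (q * c)) * (q⁻¹ * T.α q) := by rw [hq']
    _ = c * (q⁻¹ * T.α q) := by group

/-- Fixing everything modulo `⟨z⟩` makes the automorphism inner. -/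
theorem not_all : ¬ ∀ q ∈ Y.Qg, Eqz z q (T.α q) := by
  intro hall
  set b := Y.sh (Y.sh T.q1) with hb
  have hbQ : b ∈ Y.Qg := Y.sh_mem (Y.sh_mem T.q1_mem)
  refine T.outer ⟨b⁻¹, inv_mem hbQ, ?_⟩
  have cz : ∀ {x : G}, x ∈ Y.Qg → ∀ {e : G}, InZ z e → x * e = e * x := fun hx _ he =>
    Y.zcomm (Y.le_cen hx) he
  let f : G → G := fun q => q⁻¹ * (b * T.α q * b⁻¹)
  have hfz : ∀ q ∈ Y.Qg, InZ z (f q) := fun q hq => by
    have h1 : Eqz z (T.α q) (b * T.α q * b⁻¹) := by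
      have h1 : Eqz z (T.α q * b * b⁻¹) (b * T.α q * b⁻¹) :=
        Y.eqz_mul (Y.le_cen (inv_mem hbQ)) (Y.eqz_swap (T.αQ q hq) hbQ) (Y.eqz_refl _)
      rwa [mul_inv_cancel_right] at h1
    exact Y.eqz_trans (hall q hq) h1
  have hmul : ∀ q ∈ Y.Qg, ∀ r ∈ Y.Qg, f (q * r) = f q * f r := fun q hq r hr => by
    calc f (q * r) = r⁻¹ * (f q * (b * T.α r * b⁻¹)) := by simp only [f, map_mul]; group
      _ = f q * f r := by
        rw [← mul_assoc, cz (inv_mem hr) (hfz q hq), mul_assoc]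
  -- conjugating by `b` and then `ξ` is conjugating by `ξ` and then `sh q₁ q₁`
  have hkey : ∀ q ∈ Y.Qg, f (Y.sh q) = f q := by
    intro q hq
    have hαq := T.αQ q hq
    have hcong : Eqz z b (Y.sh (Y.sh b) * T.q1) := by
      have e1 : Y.sh (Y.sh b) = Y.sh T.q1 := congrArg Y.sh (Y.sh_three T.q1)
      rw [e1]
      exact Y.eqz_trans (Y.eqz_symm (Y.eqz_shsh T.q1_mem))
        (Y.eqz_swap T.q1_mem (Y.sh_mem T.q1_mem))
    obtain ⟨e, he, heq⟩ := Y.exists_of_eqz hcong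
    have hconj : Y.sh (Y.sh b) * (T.q1 * T.α q * T.q1⁻¹) * (Y.sh (Y.sh b))⁻¹ = b * T.α q * b⁻¹ := by
      calc Y.sh (Y.sh b) * (T.q1 * T.α q * T.q1⁻¹) * (Y.sh (Y.sh b))⁻¹
          = (Y.sh (Y.sh b) * T.q1) * T.α q * (Y.sh (Y.sh b) * T.q1)⁻¹ := by group
        _ = b * (e * T.α q) * e⁻¹ * b⁻¹ := by rw [heq]; group
        _ = b * T.α q * b⁻¹ := by rw [← cz hαq he]; group
    have hb3 : b = Y.sh (Y.sh (Y.sh b)) := (Y.sh_three b).symm
    have h1 : b * T.α (Y.sh q) * b⁻¹ = Y.sh (b * T.α q * b⁻¹) := by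
      rw [T.α_sh, ← hconj]
      nth_rewrite 1 [hb3]
      nth_rewrite 2 [hb3]
      simp only [Sys.sh]; group
    calc f (Y.sh q) = Y.sh (f q) := by
          show (Y.sh q)⁻¹ * (b * T.α (Y.sh q) * b⁻¹) = _
          rw [h1]
          simp only [f, Sys.sh]; group
      _ = f q := Y.sh_inZ (hfz q hq)
  intro q hq
  have hs := Y.sh_mem hq
  have h3 : f (Y.Φ q) = f q := by
    rw [Sys.Φ, hmul _ (mul_mem hq hs) _ (Y.sh_mem hs), hmul _ hq _ hs, hkey _ hs, hkey _ hq,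
      Y.inZ_sq (hfz q hq), one_mul]
  have h4 : f (Y.Φ q) = 1 := by
    show (Y.Φ q)⁻¹ * (b * T.α (Y.Φ q) * b⁻¹) = 1
    rw [T.α_inZ (Y.Φ_inZ hq), cz hbQ (Y.Φ_inZ hq), mul_inv_cancel_right, inv_mul_cancel]
  have h5 : q⁻¹ * (b * T.α q * b⁻¹) = 1 := h3.symm.trans h4
  rw [inv_mul_eq_one] at h5
  rw [inv_inv]
  conv_rhs => rw [h5]
  group

/-- At most `2^11` elements are fixed modulo `⟨z⟩`. -/
theorem card_Fix_lt : Nat.card T.Fix < 4096 := by
  by_contra hle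
  push Not at hle
  refine T.not_all fun q hq => ?_
  set u := q⁻¹ * T.α q with hu
  have huQ : u ∈ Y.Qg := mul_mem (inv_mem hq) (T.αQ q hq)
  show InZ z u
  by_contra hn
  have huc := Y.card_cent u huQ (fun e => hn (Or.inl e)) (fun e => hn (Or.inr e))
  have hsub : T.Fix ≤ Y.Qg ⊓ centralizer ({u} : Set G) := fun c hc =>
    ⟨hc.1, mem_centralizer_singleton_iff.2 (T.comm_Fix hq hc).symm⟩
  have heq : T.Fix = Y.Qg ⊓ centralizer ({u} : Set G) := eq_of_le_of_card_ge hsub (huc ▸ hle)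
  have hsu : ∀ c ∈ Y.Qg, c * u = u * c → c * Y.sh u = Y.sh u * c := fun c hc hcu => by
    have hcF : c ∈ T.Fix := heq ▸ ⟨hc, mem_centralizer_singleton_iff.2 hcu⟩
    have hs := T.sh_Fix (T.sh_Fix hcF)
    rw [heq] at hs
    have h := Y.sh_comm (mem_centralizer_singleton_iff.1 hs.2 : Y.sh (Y.sh c) * u = u * Y.sh (Y.sh c))
    rwa [Y.sh_three] at h
  rcases Y.span u huQ (fun e => hn (Or.inl e)) (fun e => hn (Or.inr e)) _ (Y.sh_mem huQ) hsu with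
    e | e | e | e
  · exact hn (Or.inl (by
      have := congrArg (fun x => Y.sh (Y.sh x)) e
      simp only [Y.sh_three, Y.sh_inZ (Or.inl rfl : InZ z (1 : G))] at this
      exact this))
  · exact hn (Or.inr (by
      have := congrArg (fun x => Y.sh (Y.sh x)) e
      simp only [Y.sh_three, Y.sh_inZ (Or.inr rfl : InZ z z)] at this
      exact this))
  · refine hn (Y.xi_fix u huQ ?_)
    show InZ z (Y.sh u * u⁻¹)
    rw [e, mul_inv_cancel]; exact Or.inl rfl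
  · refine hn (Y.xi_fix u huQ ?_)
    show InZ z (Y.sh u * u⁻¹)
    rw [e, mul_inv_cancel_right]; exact Or.inr rfl

/-- The centraliser of `t` in `Q` is not fixed. -/
theorem not_fix_cent : ¬ ∀ q ∈ Y.Qg, q * t = t * q → Eqz z q (T.α q) := fun h => by
  have := card_le_of_le (show Y.Qg ⊓ centralizer ({t} : Set G) ≤ T.Fix from
    fun q hq => ⟨hq.1, h q hq.1 (mem_centralizer_singleton_iff.1 hq.2)⟩)
  rw [Y.card_cent t T.tQ T.t1 T.tz] at this
  have := T.card_Fix_lt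
  omega

theorem Fix_eq : T.Fix = T.P := by
  refine (eq_of_le_of_card_ge T.P_le_Fix ?_).symm
  have hd : Nat.card T.Fix ∣ 2 ^ 13 := Y.card_Qg ▸ card_dvd_of_le fun _ hx => hx.1
  obtain ⟨j, -, hj⟩ := (Nat.dvd_prime_pow Nat.prime_two).1 hd
  have h := T.card_Fix_lt
  have h' := T.card_P
  rw [hj] at h ⊢
  have : j < 12 := (Nat.pow_lt_pow_iff_right one_lt_two).1 (h.trans_le (by norm_num))
  exact (Nat.pow_le_pow_right two_pos (Nat.le_of_lt_succ this)).trans h'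

theorem sh_P {p : G} (hp : p ∈ T.P) : Y.sh p ∈ T.P := T.Fix_eq ▸ T.sh_Fix (T.P_le_Fix hp)

theorem u_props : Y.sh t ∈ T.P ∧ t * Y.sh t = Y.sh t * t ∧ Y.sh t * Y.sh t = 1 ∧ ¬ InZ z (Y.sh t) ∧
    ¬ InZ z (t * Y.sh t) := by
  refine ⟨T.sh_P T.tP, (T.P_cen _ (T.sh_P T.tP)).symm, Y.sh_sq T.tt, fun h => T.t_not_inZ ?_, fun h => T.t_not_inZ ?_⟩
  · have h2 : InZ z (Y.sh (Y.sh t)) := by rw [Y.sh_inZ h]; exact h
    rw [← Y.sh_three t, Y.sh_inZ h2]; exact h2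
  · refine Y.xi_fix t T.tQ ?_
    show InZ z (Y.sh t * t⁻¹)
    rw [inv_eq_of_mul_eq_one_right T.tt]
    rwa [← (T.P_cen _ (T.sh_P T.tP))]at h

/-- The elements of `Q` centralising `P`. -/
theorem cls {c : G} (hc : c ∈ Y.Qg) (hcP : ∀ p ∈ T.P, c * p = p * c) :
    InZ z c ∨ Eqz z t c ∨ Eqz z (Y.sh t) c ∨ Eqz z (t * Y.sh t) c := by
  obtain ⟨huP, hut, huu, hu, -⟩ := T.u_props
  have inP : ∀ {x}, InZ z x → x ∈ T.P := fun hx => by
    rcases hx with rfl | rfl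
    exacts [one_mem _, T.zP]
  -- some element commutes with `t` outside `P`
  obtain ⟨r, hr, hrt, hrP⟩ : ∃ r ∈ Y.Qg, r * t = t * r ∧ r ∉ T.P := by
    by_contra hh
    push Not at hh
    exact T.not_fix_cent fun q hq hqt => (T.P_le_Fix (hh q hq hqt)).2
  -- something centralising `P` and `r` centralises the centraliser of `t`
  have key : ∀ x ∈ Y.Qg, (∀ p ∈ T.P, x * p = p * x) → x * r = r * x →
      InZ z x ∨ Eqz z t x := by
    intro x hx hxP hxr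
    have hR : ∀ q ∈ Y.Qg, q * t = t * q → q * x = x * q := by
      intro q hq hqt
      let R := Y.Qg ⊓ centralizer ({t} : Set G) ⊓ centralizer ({x} : Set G)
      have hPR : T.P < R := by
        refine lt_of_le_of_ne (fun p hp => ⟨⟨T.P_le hp, mem_centralizer_singleton_iff.2 (T.P_cen p hp)⟩,
          mem_centralizer_singleton_iff.2 (hxP p hp).symm⟩) fun e => hrP ?_
        rw [e]
        exact ⟨⟨hr, mem_centralizer_singleton_iff.2 hrt⟩, mem_centralizer_singleton_iff.2 hxr.symm⟩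
      have hle : R ≤ Y.Qg ⊓ centralizer ({t} : Set G) := inf_le_left
      have h2 : 2 * Nat.card T.P ≤ Nat.card R := by
        obtain ⟨k, hk⟩ := card_dvd_of_le hPR.le
        rcases k with _ | _ | k
        · simp [Nat.card_pos.ne'] at hk
        · exact absurd (eq_of_le_of_card_ge hPR.le (by rw [hk]; simp)) hPR.ne
        · rw [hk]; nlinarith
      have heq := eq_of_le_of_card_ge hle (by
        rw [Y.card_cent t T.tQ T.t1 T.tz]
        have := T.card_P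
        omega)
      have : q ∈ R := heq ▸ ⟨hq, mem_centralizer_singleton_iff.2 hqt⟩
      exact mem_centralizer_singleton_iff.1 this.2
    rcases Y.span t T.tQ T.t1 T.tz x hx hR with rfl | rfl | rfl | rfl
    · exact Or.inl (Or.inl rfl)
    · exact Or.inl (Or.inr rfl)
    · exact Or.inr (Y.eqz_refl _)
    · exact Or.inr (Y.eqz_of_mul (Or.inr rfl) (Y.zcomm (Y.le_cen T.tQ) (Or.inr rfl)).symm)
  by_cases hcr : c * r = r * c
  · rcases key c hc hcP hcr with h | h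
    exacts [Or.inl h, Or.inr (Or.inl h)]
  set u := Y.sh t with hu'
  have hur : u * r ≠ r * u := fun h => by
    have huC : ∀ p ∈ T.P, u * p = p * u := fun p hp => by
      have hp' := T.sh_P (T.sh_P hp)
      have h' := Y.sh_comm ((T.P_cen _ hp').symm : t * Y.sh (Y.sh p) = Y.sh (Y.sh p) * t)
      rwa [Y.sh_three] at h'
    rcases key u (T.P_le huP) huC h with k | k
    · exact hu k
    · refine T.t_not_inZ (Y.xi_fix t T.tQ ?_)
      exact Y.eqz_div (Y.le_cen T.tQ) k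
  have hcu : c * u * r = r * (c * u) := by
    obtain ⟨e, he, h1⟩ := Y.comm' hc hr
    obtain ⟨f, hf, h2⟩ := Y.comm' (T.P_le huP) hr
    have e1 : e = z := he.resolve_left fun k => hcr (by rw [h1, k, one_mul])
    have f1 : f = z := hf.resolve_left fun k => hur (by rw [h2, k, one_mul])
    calc c * u * r = c * (f * (r * u)) := by rw [mul_assoc, h2]
      _ = f * (c * r) * u := by rw [← mul_assoc, Y.zcomm (Y.le_cen hc) hf]; group
      _ = f * e * (r * c) * u := by rw [h1]; group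
      _ = r * (c * u) := by rw [e1, f1, Y.zz]; group
  have hcuP : ∀ p ∈ T.P, c * u * p = p * (c * u) := fun p hp => by
    have hp' := T.sh_P (T.sh_P hp)
    have h' := Y.sh_comm ((T.P_cen _ hp').symm : t * Y.sh (Y.sh p) = Y.sh (Y.sh p) * t)
    rw [Y.sh_three] at h'
    exact ((show Commute c p from hcP p hp).mul_left (show Commute u p from h')).eq
  have huc : u ∈ centralizer ({z} : Set G) := Y.le_cen (T.P_le huP)
  rcases key (c * u) (mul_mem hc (T.P_le huP)) hcuP hcu with h | h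
  · refine Or.inr (Or.inr (Or.inl ?_))
    obtain ⟨e, he, heq⟩ : ∃ e, InZ z e ∧ c * u = e := ⟨_, h, rfl⟩
    refine Y.eqz_of_mul he ?_
    rw [← heq, show u * (c * u) = u * c * u by group, ← hcP u huP, mul_assoc, huu, mul_one]
  · refine Or.inr (Or.inr (Or.inr ?_))
    have := Y.eqz_mul huc h (Y.eqz_refl u)
    rwa [mul_assoc, huu, mul_one] at this

theorem cls_fix {c : G} (hc : c ∈ Y.Qg) (hcP : ∀ p ∈ T.P, c * p = p * c) : c ∈ T.P ∧ c * c = 1 := by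
  obtain ⟨huP, hut, huu, -, -⟩ := T.u_props
  have sqe : ∀ {a}, a ∈ T.P → a * a = 1 → Eqz z a c → c ∈ T.P ∧ c * c = 1 := fun {a} ha haa h => by
    refine ⟨Y.eqz_mem T.zP h ha, ?_⟩
    obtain ⟨e, he, rfl⟩ := Y.exists_of_eqz h
    calc a * e * (a * e) = a * (e * a) * e := by group
      _ = 1 := by rw [← Y.zcomm (Y.le_cen (T.P_le ha)) he, ← mul_assoc, haa, one_mul, Y.inZ_sq he]
  rcases T.cls hc hcP with h | h | h | h
  · exact ⟨Y.eqz_mem T.zP (show Eqz z 1 c by rw [Eqz, inv_one, one_mul]; exact h) (one_mem _), Y.inZ_sq h⟩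
  · exact sqe T.tP T.tt h
  · exact sqe huP huu h
  · refine sqe (mul_mem T.tP huP) ?_ h
    rw [show t * Y.sh t * (t * Y.sh t) = t * (Y.sh t * t) * Y.sh t by group, ← hut,
      ← mul_assoc, T.tt, one_mul, huu]

theorem delta_comm {q : G} (hq : q ∈ Y.Qg) : ∀ p ∈ T.P, q⁻¹ * T.α q * p = p * (q⁻¹ * T.α q) :=
  fun _ hp => T.comm_Fix hq (T.P_le_Fix hp)

/-- The square is not conjugation by `t`. -/
theorem sq_ne : ¬ ∀ q ∈ Y.Qg, T.α (T.α q) = t * q * t⁻¹ := by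
  intro h
  obtain ⟨q, hq, hqt⟩ : ∃ q ∈ Y.Qg, q * t ≠ t * q := by
    by_contra! hh
    have := card_le_of_le (show Y.Qg ≤ Y.Qg ⊓ centralizer ({t} : Set G) from
      fun q hq => ⟨hq, mem_centralizer_singleton_iff.2 (hh q hq)⟩)
    rw [Y.card_cent t T.tQ T.t1 T.tz, Y.card_Qg] at this
    norm_num at this
  obtain ⟨hv, hvv⟩ := T.cls_fix (mul_mem (inv_mem hq) (T.αQ q hq)) (T.delta_comm hq)
  have h2 := h q hq
  rw [show T.α q = q * (q⁻¹ * T.α q) by group, map_mul, T.fix_P _ hv,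
    show T.α q * (q⁻¹ * T.α q) = q * (q⁻¹ * T.α q * (q⁻¹ * T.α q)) by group, hvv, mul_one] at h2
  exact hqt (eq_mul_inv_iff_mul_eq.1 h2)

/-- A fixed element of order three in the coset of `ξ`. -/
theorem exists_three : ∃ x : G, T.α x = x ∧ x ^ 3 = 1 ∧ x * t * x⁻¹ ∈ T.P ∧ x * t * x⁻¹ ≠ t ∧
    ∃ b ∈ Y.Qg, x = b * Y.ξ * b⁻¹ := by
  obtain ⟨huP, hut, huu, hu, htu⟩ := T.u_props
  set u := Y.sh t with hu'
  have huQ : u ∈ Y.Qg := T.P_le huP
  have cz : ∀ {x : G}, x ∈ Y.Qg → ∀ {e : G}, InZ z e → x * e = e * x := fun hx _ he =>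
    Y.zcomm (Y.le_cen hx) he
  have hsu : Eqz z (t * u) (Y.sh u) := Y.eqz_shsh T.tQ
  -- `q₁` centralises `P`
  have hq1 : ∀ p ∈ T.P, T.q1 * p = p * T.q1 := fun p hp => by
    have h := T.α_sh p
    rw [T.fix_P _ (T.sh_P hp), T.fix_P p hp] at h
    have h' : p = T.q1 * p * T.q1⁻¹ := by
      have := congrArg (fun x => Y.sh (Y.sh x)) h
      simpa only [Y.sh_three] using this
    nth_rewrite 2 [h']
    group
  -- the classes reached
  let δ : G → G := fun q => q⁻¹ * T.α q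
  have hδQ : ∀ q ∈ Y.Qg, δ q ∈ Y.Qg := fun q hq => mul_mem (inv_mem hq) (T.αQ q hq)
  have hδsh : ∀ q ∈ Y.Qg, Eqz z (Y.sh (δ q)) (δ (Y.sh q)) := fun q hq => by
    show Eqz z (Y.sh (q⁻¹ * T.α q)) ((Y.sh q)⁻¹ * T.α (Y.sh q))
    rw [T.α_sh, Y.sh_mul, show Y.sh q⁻¹ = (Y.sh q)⁻¹ by simp only [Sys.sh]; group]
    exact Y.eqz_mul (Y.le_cen (Y.sh_mem (T.αQ q hq))) (Y.eqz_refl _) (Y.eqz_sh (T.conj_q1 (T.αQ q hq)))
  obtain ⟨q, hq, hqn⟩ : ∃ q ∈ Y.Qg, ¬ InZ z (δ q) := by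
    by_contra! hh
    exact T.not_all hh
  have reach : ∀ c, (InZ z c ∨ Eqz z t c ∨ Eqz z u c ∨ Eqz z (t * u) c) → ∃ r ∈ Y.Qg, Eqz z c (δ r) := by
    have hcls := T.cls (hδQ q hq) (T.delta_comm hq)
    have base : ∀ a, (∃ r ∈ Y.Qg, Eqz z a (δ r)) → ∃ r ∈ Y.Qg, Eqz z (Y.sh a) (δ r) := fun a ⟨r, hr, hra⟩ =>
      ⟨Y.sh r, Y.sh_mem hr, Y.eqz_trans (Y.eqz_sh hra) (hδsh r hr)⟩
    have move : ∀ a c, Eqz z a c → (∃ r ∈ Y.Qg, Eqz z a (δ r)) → ∃ r ∈ Y.Qg, Eqz z c (δ r) :=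
      fun a c hac ⟨r, hr, h⟩ => ⟨r, hr, Y.eqz_trans (Y.eqz_symm hac) h⟩
    have hwt : Eqz z t (Y.sh (t * u)) := by
      have := Y.eqz_sh hsu
      rw [show Y.sh (Y.sh u) = t from Y.sh_three t] at this
      exact Y.eqz_symm this
    have all3 : (∃ r ∈ Y.Qg, Eqz z t (δ r)) ∧ (∃ r ∈ Y.Qg, Eqz z u (δ r)) ∧
        ∃ r ∈ Y.Qg, Eqz z (t * u) (δ r) := by
      rcases hcls with h | h | h | h
      · exact absurd h hqn
      · have h1 : ∃ r ∈ Y.Qg, Eqz z t (δ r) := ⟨q, hq, h⟩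
        exact ⟨h1, base _ h1, move _ _ (Y.eqz_symm hsu) (base _ (base _ h1))⟩
      · have h2 : ∃ r ∈ Y.Qg, Eqz z u (δ r) := ⟨q, hq, h⟩
        have h3 := move _ _ (Y.eqz_symm hsu) (base _ h2)
        exact ⟨move _ _ (Y.eqz_symm hwt) (base _ h3), h2, h3⟩
      · have h3 : ∃ r ∈ Y.Qg, Eqz z (t * u) (δ r) := ⟨q, hq, h⟩
        have h1 := move _ _ (Y.eqz_symm hwt) (base _ h3)
        exact ⟨h1, base _ h1, h3⟩
    rintro c (h | h | h | h)
    · exact ⟨1, one_mem _, by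
        show InZ z (c⁻¹ * ((1 : G)⁻¹ * T.α 1))
        rw [map_one, inv_one, mul_one, mul_one]; exact Y.inZ_inv h⟩
    · exact move _ _ h all3.1
    · exact move _ _ h all3.2.1
    · exact move _ _ h all3.2.2
  -- take `v` with `sh v = q₁` up to `⟨z⟩`
  have hvQ : Y.sh (Y.sh T.q1) ∈ Y.Qg := Y.sh_mem (Y.sh_mem T.q1_mem)
  have hvP : ∀ p ∈ T.P, Y.sh (Y.sh T.q1) * p = p * Y.sh (Y.sh T.q1) := fun p hp => by
    have h := Y.sh_comm (Y.sh_comm (hq1 _ (T.sh_P hp) : T.q1 * Y.sh p = Y.sh p * T.q1))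
    rwa [Y.sh_three] at h
  obtain ⟨b, hb, hbv⟩ := reach _ (T.cls hvQ hvP)
  obtain ⟨e, he, hbe⟩ := Y.exists_of_eqz hbv
  set v := δ b with hv
  have hvQ' : v ∈ Y.Qg := hδQ b hb
  have hαb : T.α b = b * v := by rw [hv]; simp only [δ]; group
  -- the image of `b ξ b⁻¹`
  have hsv : Y.sh v = T.q1 * e := by
    rw [hbe, Y.sh_mul, Y.sh_inZ he]
    exact congrArg (· * e) (Y.sh_three T.q1)
  obtain ⟨f, hf, hfe⟩ : ∃ f, InZ z f ∧ v * Y.ξ * T.q1 * v⁻¹ = Y.ξ * f := by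
    refine ⟨Y.ξ⁻¹ * v * Y.ξ * T.q1 * v⁻¹, ?_, by group⟩
    have hs2 : Y.ξ⁻¹ * v * Y.ξ = Y.sh (Y.sh v) := (Y.sh_sh_eq v).symm
    rw [hs2]
    have e1 : Eqz z (Y.sh (Y.sh v)) (v * Y.sh v) := Y.eqz_symm (Y.eqz_shsh hvQ')
    have e2 : Eqz z (Y.sh (Y.sh v) * T.q1) (v * Y.sh v * T.q1) :=
      Y.eqz_mul (Y.le_cen T.q1_mem) e1 (Y.eqz_refl _)
    have e3 : Eqz z v (v * Y.sh v * T.q1) := by
      refine Y.eqz_of_mul (Y.inZ_mul (Y.sq _ T.q1_mem) he) ?_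
      rw [hsv, show v * (T.q1 * e) * T.q1 = v * (T.q1 * (e * T.q1)) by group, ← cz T.q1_mem he]
      group
    obtain ⟨g, hg, hge⟩ := Y.exists_of_eqz (Y.eqz_trans e3 (Y.eqz_symm e2))
    rw [hge, ← cz hvQ' hg |>.symm, mul_inv_cancel_right]
    exact hg
  have hαx : T.α (b * Y.ξ * b⁻¹) = b * Y.ξ * b⁻¹ * f := by
    rw [map_mul, map_mul, map_inv, hαb, T.α_xi,
      show b * v * (Y.ξ * T.q1) * (b * v)⁻¹ = b * (v * Y.ξ * T.q1 * v⁻¹) * b⁻¹ by group, hfe,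
      show b * (Y.ξ * f) * b⁻¹ = b * Y.ξ * (f * b⁻¹) by group, ← cz (inv_mem hb) hf]
    group
  have hx3 : (b * Y.ξ * b⁻¹) ^ 3 = 1 := by rw [conj_pow, Y.xi3, mul_one, mul_inv_cancel]
  have hxc : b * Y.ξ * b⁻¹ ∈ centralizer ({z} : Set G) :=
    mul_mem (mul_mem (Y.le_cen hb) Y.xi_cen) (inv_mem (Y.le_cen hb))
  have hf1 : f = 1 := by
    have h := congrArg T.α hx3
    rw [map_pow, hαx, (show Commute _ f from Y.zcomm hxc hf).mul_pow, hx3, one_mul, map_one, pow_succ,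
      pow_two, Y.inZ_sq hf, one_mul] at h
    exact h
  rw [hf1, mul_one] at hαx
  have hconj : Eqz z u (b * Y.ξ * b⁻¹ * t * (b * Y.ξ * b⁻¹)⁻¹) := by
    have hin : Eqz z t (b⁻¹ * t * b) := by
      have h1 : Eqz z (t * b⁻¹ * b) (b⁻¹ * t * b) :=
        Y.eqz_mul (Y.le_cen hb) (Y.eqz_swap T.tQ (inv_mem hb)) (Y.eqz_refl _)
      rwa [inv_mul_cancel_right] at h1
    have hw : Y.sh (b⁻¹ * t * b) ∈ Y.Qg := Y.sh_mem (mul_mem (mul_mem (inv_mem hb) T.tQ) hb)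
    have h2 : Eqz z (Y.sh (b⁻¹ * t * b)) (b * Y.sh (b⁻¹ * t * b) * b⁻¹) := by
      have h1 : Eqz z (Y.sh (b⁻¹ * t * b) * b * b⁻¹) (b * Y.sh (b⁻¹ * t * b) * b⁻¹) :=
        Y.eqz_mul (Y.le_cen (inv_mem hb)) (Y.eqz_swap hw hb) (Y.eqz_refl _)
      rwa [mul_inv_cancel_right] at h1
    have := Y.eqz_trans (Y.eqz_sh hin) h2
    rwa [show b * Y.sh (b⁻¹ * t * b) * b⁻¹ = b * Y.ξ * b⁻¹ * t * (b * Y.ξ * b⁻¹)⁻¹ by
      simp only [Sys.sh]; group] at this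
  refine ⟨b * Y.ξ * b⁻¹, hαx, hx3, Y.eqz_mem T.zP hconj huP, fun k => htu ?_, b, hb, rfl⟩
  rw [k] at hconj
  obtain ⟨g, hg, hge⟩ := Y.exists_of_eqz hconj
  have : t * u = g := by
    nth_rewrite 1 [hge]
    rw [mul_assoc, Y.zcomm (Y.le_cen huQ) hg |>.symm, ← mul_assoc, huu, one_mul]
  rw [this]; exact hg

end Twist

end CfsgLib.FischerTwoFour
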