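import Cfsg.Agent.Lib.FischerTwoFour.Of
import Cfsg.Agent.Lib.FischerTwoFour.OuterInv.Twist

/-!
An automorphism fixing `z` and preserving `Q` preserves the normal subgroup of order `3 · 2^13` of the
centraliser: it sends `ξ` into the cosets of `ξ` and of its inverse.
-/

set_option autoImplicit false
set_option linter.unusedSectionVars false
set_option linter.style.haveILetI false

namespace CfsgLib.FischerTwoFour

open Subgroup

variable {G : Type*} [Group G] [Finite G] {z : G}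

set_option quotPrecheck false in
local notation "CC" => Subgroup.centralizer ({z} : Set G)

theorem exists_sys_preserved {Q : Subgroup (Subgroup.centralizer ({z} : Set G))} [Q.Normal]
    (hF : Cfsg.IsOfLargeFischerTypeAt z Q) :
    ∃ Y : Sys z, Y.Qg = Q.map (CC).subtype ∧ ∀ α : G ≃* G, α z = z → (∀ q ∈ Y.Qg, α q ∈ Y.Qg) →
      ∃ q ∈ Y.Qg, α Y.ξ = Y.ξ * q ∨ α Y.ξ = Y.ξ⁻¹ * q := by
  classical
  have S := shape_of hF
  have hz : orderOf z = 2 := hF.1.1
  obtain ⟨N, M, hNn, hMn, hQN, hNM, hcardN, hidx, hcen, hfpf, -, K, hKf, hKt, hK, ⟨φ⟩⟩ := S.tower_data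
  haveI := hNn
  haveI := hMn
  have h7 : ∃ a : M ⧸ N.subgroupOf M, a ^ 3 ≠ 1 := by
    have : Fact (Nat.Prime 7) := ⟨by norm_num⟩
    have : CharP K 3 := by
      have : Fact (Nat.Prime 3) := ⟨Nat.prime_three⟩
      exact charP_of_card_eq_prime_pow (f := 2) (p := 3) (by rw [hK]; rfl)
    obtain ⟨y, hy⟩ := exists_prime_orderOf_dvd_card' (G := Cfsg.PSU 4 K 3) 7 (by
      rw [CfsgLib.UFourThree82.card_psu hK]; norm_num)
    refine ⟨φ.symm y, fun e => ?_⟩
    have e' : y ^ 3 = 1 := φ.symm.injective (by rw [map_pow, e, map_one])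
    have := orderOf_dvd_of_pow_eq_one e'
    rw [hy] at this
    norm_num at this
  haveI : IsSimpleGroup (M ⧸ N.subgroupOf M) := φ.isSimpleGroup_congr.2
    (CfsgLib.ClassicalGroups.psu_isSimpleGroup (by rw [hK]; norm_num) (by norm_num) (by omega))
  -- the subgroup `N` modulo `Q`
  set Nb := N.map (QuotientGroup.mk' Q) with hNb
  have hNb3 : Nat.card Nb = 3 := by
    have hf : ((QuotientGroup.mk' Q).comp N.subtype).range = Nb := by
      rw [MonoidHom.range_comp, range_subtype]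
    have h := card_eq_card_quotient_mul_card_subgroup ((QuotientGroup.mk' Q).comp N.subtype).ker
    rw [Nat.card_congr (QuotientGroup.quotientKerEquivRange _).toEquiv, hf,
      show ((QuotientGroup.mk' Q).comp N.subtype).ker = Q.subgroupOf N by
        rw [← MonoidHom.comap_ker, QuotientGroup.ker_mk']; rfl,
      Nat.card_congr (subgroupOfEquivOfLe hQN).toEquiv, hcardN] at h
    exact Nat.eq_of_mul_eq_mul_right Nat.card_pos h.symm
  haveI := Fact.mk Nat.prime_three
  obtain ⟨⟨w, hwN⟩, hw⟩ := exists_prime_orderOf_dvd_card' (G := N) 3 (by rw [hcardN]; exact dvd_mul_right 3 _)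
  rw [Subgroup.orderOf_mk] at hw
  have hw3 : w ^ 3 = 1 := hw ▸ pow_orderOf_eq_one w
  have hwQ : w ∉ Q := fun h => by
    have h1 : orderOf (⟨w, h⟩ : Q) ∣ 2 ^ 13 := S.card_Q ▸ orderOf_dvd_natCard _
    rw [Subgroup.orderOf_mk, hw] at h1
    norm_num at h1
  obtain ⟨Y, hYQ, -, hYx⟩ := exists_sys S hz N M hQN hNM hidx hcen hfpf w hwN hwQ hw3
  refine ⟨Y, hYQ, fun α hαz hαQ => ?_⟩
  have hmem : ∀ c : CC, α c ∈ CC := fun c => mem_centralizer_singleton_iff.2
    (calc α c * z = α c * α z := by rw [hαz]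
      _ = α z * α c := by rw [← map_mul, ← map_mul, mem_centralizer_singleton_iff.1 c.2]
      _ = z * α c := by rw [hαz])
  let a : CC →* CC := (α.toMonoidHom.comp (CC).subtype).codRestrict _ hmem
  have hai : Function.Injective a := fun c c' e => Subtype.ext (α.injective (congrArg Subtype.val e))
  have has : Function.Surjective a := Finite.injective_iff_surjective.1 hai
  have haQ : ∀ c ∈ Q, a c ∈ Q := fun c hc => by
    have h := hαQ (c : G) (hYQ.symm ▸ ⟨c, hc, rfl⟩)
    rw [hYQ] at h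
    obtain ⟨d, hd, e⟩ := h
    exact (Subtype.ext e : d = a c) ▸ hd
  have hQcube : ∀ n ∈ N, n ^ 3 ∈ Q := fun n hn => by
    have h : (⟨QuotientGroup.mk' Q n, mem_map_of_mem _ hn⟩ : Nb) ^ 3 = 1 := hNb3 ▸ pow_card_eq_one'
    refine (QuotientGroup.eq_one_iff _).1 ?_
    have := congrArg Subtype.val h
    rw [SubmonoidClass.coe_pow, ← map_pow] at this
    exact this
  set N' := N.map a with hN'
  haveI : N'.Normal := hNn.map a has
  have hN'cube : ∀ n ∈ N', n ^ 3 ∈ Q := by
    rintro _ ⟨n, hn, rfl⟩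
    rw [← map_pow]; exact haQ _ (hQcube n hn)
  have hN'M : N' ≤ M := fun n hn => by
    have e : n = n ^ 3 * (n * n)⁻¹ := by group
    rw [e]
    exact mul_mem (hNM (hQN (hN'cube n hn))) (inv_mem (mul_self_mem_of_index_two hidx n))
  let f : M →* M ⧸ N.subgroupOf M := QuotientGroup.mk' _
  have hfs : Function.Surjective f := QuotientGroup.mk'_surjective _
  have hawN : a w ∈ N := by
    rcases IsSimpleGroup.eq_bot_or_eq_top_of_normal _
        (Subgroup.Normal.map (inferInstance : (N'.subgroupOf M).Normal) f hfs) with h | h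
    · have hm : (⟨a w, hN'M ⟨w, hwN, rfl⟩⟩ : M) ∈ N'.subgroupOf M := mem_subgroupOf.2 ⟨w, hwN, rfl⟩
      exact mem_subgroupOf.1 ((QuotientGroup.eq_one_iff _).1 (mem_bot.1 (h ▸ mem_map_of_mem f hm)))
    · exfalso
      obtain ⟨b, hb⟩ := h7
      obtain ⟨m, hm, rfl⟩ := (h ▸ mem_top b : b ∈ (N'.subgroupOf M).map f)
      refine hb ?_
      rw [← map_pow]
      exact (QuotientGroup.eq_one_iff _).2 (mem_subgroupOf.2 (hQN (hN'cube _ (mem_subgroupOf.1 hm))))
  -- in the group of order three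
  let wb : Nb := ⟨QuotientGroup.mk' Q w, mem_map_of_mem _ hwN⟩
  let vb : Nb := ⟨QuotientGroup.mk' Q (a w), mem_map_of_mem _ hawN⟩
  have hwb1 : wb ≠ 1 := fun e => hwQ ((QuotientGroup.eq_one_iff _).1 (congrArg Subtype.val e))
  have hvb1 : vb ≠ 1 := fun e => by
    have hv : a w ∈ Q := (QuotientGroup.eq_one_iff _).1 (congrArg Subtype.val e)
    have h1 : orderOf (⟨a w, hv⟩ : Q) ∣ 2 ^ 13 := S.card_Q ▸ orderOf_dvd_natCard _
    rw [Subgroup.orderOf_mk, orderOf_injective a hai, hw] at h1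
    norm_num at h1
  have hcases : vb = wb ∨ vb = wb⁻¹ := by
    have : IsCyclic Nb := isCyclic_of_prime_card hNb3
    have hgen := zpowers_eq_top_of_prime_card hNb3 hwb1
    obtain ⟨k, hk⟩ := mem_zpowers_iff.1 (hgen ▸ mem_top vb)
    have ho : orderOf wb = 3 := orderOf_eq_prime (hNb3 ▸ pow_card_eq_one') hwb1
    rw [← zpow_mod_orderOf, ho] at hk
    rcases (by omega : k % (3 : ℕ) = 0 ∨ k % (3 : ℕ) = 1 ∨ k % (3 : ℕ) = 2) with e | e | e <;>
      rw [e] at hk
    · exact absurd (hk.symm.trans (zpow_zero _)) hvb1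
    · exact Or.inl (hk.symm.trans (zpow_one _))
    · refine Or.inr (hk.symm.trans (eq_inv_of_mul_eq_one_left ?_))
      rw [show wb ^ (2 : ℤ) * wb = wb ^ 3 by group]
      exact hNb3 ▸ pow_card_eq_one'
  rcases hcases with e | e
  · have hq : w⁻¹ * a w ∈ Q := (QuotientGroup.eq).1 (congrArg Subtype.val e.symm)
    refine ⟨((w⁻¹ * a w : CC) : G), hYQ.symm ▸ ⟨_, hq, rfl⟩, Or.inl ?_⟩
    rw [hYx]
    show α (w : G) = (w : G) * ((w : G)⁻¹ * α (w : G))
    group
  · have hq : (w⁻¹)⁻¹ * a w ∈ Q := (QuotientGroup.eq).1 (congrArg Subtype.val e.symm)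
    refine ⟨(((w⁻¹)⁻¹ * a w : CC) : G), hYQ.symm ▸ ⟨_, hq, rfl⟩, Or.inr ?_⟩
    rw [hYx]
    show α (w : G) = (w : G)⁻¹ * (((w : G)⁻¹)⁻¹ * α (w : G))
    group

end CfsgLib.FischerTwoFour
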