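import Cfsg.Agent.Lib.FischerTwoFour.OuterInv.Main
import Cfsg.Agent.Lib.ThreeTrans.FiCent24.Consumer

/-! A group with a subgroup of index two of large Fischer type is, granted the centraliser of a non-central
involution, generated by 3-transpositions with respect to which it is of type M(24). -/

set_option autoImplicit false

namespace CfsgLib.FischerTwoFour.OuterInv

universe u

theorem typeM24_of_centralizer (h5450 : FischerTwoFourCentralizer.{u}) {X : Type u} [Group X] [Finite X]
    (G₀ : Subgroup X) (hidx : G₀.index = 2) (z : ↥G₀)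
    (Q : Subgroup (Subgroup.centralizer ({z} : Set ↥G₀))) [Q.Normal]
    (hF : Cfsg.IsOfLargeFischerTypeAt z Q)
    (hcentral : ∃ P : Sylow 2 ↥G₀, z ∈ (P : Subgroup ↥G₀) ∧ ∀ x ∈ (P : Subgroup ↥G₀), Commute x z)
    (hFX : (Cfsg.generalizedFittingSubgroup ↥(Subgroup.centralizer ({(z : X)} : Set X))).map (Subgroup.subtype _) =
      ((Q.map (Subgroup.subtype _)).map G₀.subtype)) :
    ∃ E : Set X, Cfsg.IsThreeTranspositionClass E ∧ Cfsg.IsOfTypeM24 X E := by
  obtain ⟨d, hd, hout, -, t, ht, hq, ⟨hn, ⟨E, hE, h22⟩, -⟩, hnwc, -, -⟩ :=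
    outer_involution h5450 G₀ hidx z Q hF hcentral hFX
  exact CfsgLib.ThreeTrans.FiCent24.typeM24_of_fischer G₀ hidx z Q hF d hd hout t ht hq hE h22 hnwc

end CfsgLib.FischerTwoFour.OuterInv
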